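import Groth.Agent.Sep43Lib.FP
import Groth.Agent.RpushLib.HBase
import Groth.Agent.QCohLib.AffineFinite
import Groth.Agent.QCohLib.Coherent

/-!
# Schematically dominant families and flat morphisms locally of finite presentation
-/

set_option autoImplicit false
universe u

open CategoryTheory CategoryTheory.Limits AlgebraicGeometry TopologicalSpace Opposite TensorProduct

noncomputable section

namespace Sep43Lib

variable {X X' : Scheme.{u}} {ι : Type u} (Z : ι → Scheme.{u}) (f : ∀ i, Z i ⟶ X) (g : X' ⟶ X)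

theorem eq_zero_of_forall_nhds {Y : Scheme.{u}} {V : Y.Opens} (t : Γ(Y, V))
    (h : ∀ y ∈ V, ∃ (W : Y.Opens) (hW : W ≤ V), y ∈ W ∧ Y.presheaf.map (homOfLE hW).op t = 0) : t = 0 := by
  refine TopCat.Presheaf.section_ext Y.sheaf V t 0 fun y hy => ?_
  obtain ⟨W, hW, hyW, h0⟩ := h y hy
  show Y.presheaf.germ V y hy t = Y.presheaf.germ V y hy 0
  rw [map_zero, ← TopCat.Presheaf.germ_res_apply Y.presheaf (homOfLE hW) y hyW t, h0, map_zero]

/-- Indices of the affine opens of the members of the family over an open subset. -/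
abbrev DomIdx (U : X.Opens) : Type u := Σ i : ι, {W : (Z i).Opens // IsAffineOpen W ∧ W ≤ f i ⁻¹ᵁ U}

/-- Base change of a schematically dominant family along a flat morphism locally of finite presentation. -/
theorem dominant_pullback [Flat g] [LocallyOfFinitePresentation g]
    (h : ∀ (V : X.Opens) (t : Γ(X, V)), (∀ i, (f i).app V t = 0) → t = 0)
    (V : X'.Opens) (t : Γ(X', V)) (ht : ∀ i, (pullback.snd (f i) g).app V t = 0) : t = 0 := by
  refine eq_zero_of_forall_nhds t fun x hx => ?_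
  obtain ⟨U, hU, hxU⟩ := QCohLib.exists_affine_nhd (g x)
  obtain ⟨U', hU', hxU', hle⟩ :=
    Opens.isBasis_iff_nbhd.mp X'.isBasis_affineOpens (U := V ⊓ g ⁻¹ᵁ U) (x := x) ⟨hx, hxU⟩
  have hUV : U' ≤ V := hle.trans inf_le_left
  have hgU : U' ≤ g ⁻¹ᵁ U := hle.trans inf_le_right
  refine ⟨U', hUV, hxU', ?_⟩
  set s := X'.presheaf.map (homOfLE hUV).op t
  letI := (g.appLE U U' hgU).hom.toAlgebra
  haveI : Module.Flat Γ(X, U) Γ(X', U') := g.flat_appLE hU hU' hgU
  haveI : Algebra.FinitePresentation Γ(X, U) Γ(X', U') := g.finitePresentation_appLE hU hU' hgU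
  let G : DomIdx Z f U → Type u := fun j => Γ(Z j.1, j.2.1)
  letI : ∀ j, CommRing (G j) := fun j => inferInstanceAs (CommRing Γ(Z j.1, j.2.1))
  letI : ∀ j, Algebra Γ(X, U) (G j) := fun j => ((f j.1).appLE U j.2.1 j.2.2.2).hom.toAlgebra
  have hL : LSep fun j => Algebra.linearMap Γ(X, U) (G j) := by
    intro a r hr
    have h0 : X.presheaf.map (homOfLE (X.basicOpen_le a)).op r = 0 := by
      refine h _ _ fun i => eq_zero_of_forall_nhds _ fun z hz => ?_
      obtain ⟨W, hW, hzW, hWle⟩ := Opens.isBasis_iff_nbhd.mp (Z i).isBasis_affineOpens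
        (U := f i ⁻¹ᵁ X.basicOpen a) (x := z) hz
      refine ⟨W, hWle, hzW, ?_⟩
      have hWU : W ≤ f i ⁻¹ᵁ U := hWle.trans ((f i).preimage_mono (X.basicOpen_le a))
      obtain ⟨n, hn⟩ := hr ⟨i, W, hW, hWU⟩
      have hn' : (f i).appLE U W hWU (a ^ n) * (f i).appLE U W hWU r = 0 := hn
      have hu : IsUnit ((f i).appLE U W hWU a) := by
        rw [← Scheme.Hom.map_appLE _ hWle (homOfLE (X.basicOpen_le a)).op]
        exact (RingedSpace.isUnit_res_basicOpen X.toRingedSpace a).map ((f i).appLE _ W hWle).hom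
      rw [map_pow] at hn'
      rw [← (hu.pow n).mul_right_eq_zero, ← hn']
      congr 1
      exact congr($(Scheme.Hom.map_appLE (f i) hWle (homOfLE (X.basicOpen_le a)).op) r)
    haveI := hU.isLocalization_basicOpen a
    obtain ⟨⟨_, n, rfl⟩, hn⟩ :=
      (IsLocalization.map_eq_zero_iff (Submonoid.powers a) Γ(X, X.basicOpen a) r).mp h0
    exact ⟨n, hn⟩
  have key : s ⊗ₜ[Γ(X, U)] (1 : Γ(X, U)) = 0 := by
    refine sep_of_fp _ Γ(X', U') hL _ fun j => ?_
    obtain ⟨i, W, hW, hWU⟩ := j
    let H := IsPullback.of_hasPullback (f i) g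
    have hP := RpushLib.isPushout_sections H.flip (US := U) hU hW hWU hU' hgU
    let P := pullback.snd (f i) g ⁻¹ᵁ U' ⊓ pullback.fst (f i) g ⁻¹ᵁ W
    have h1 : (pullback.snd (f i) g).appLE U' P inf_le_left s = 0 := by
      rw [← CategoryTheory.comp_apply, Scheme.Hom.map_appLE]
      show ((pullback.snd (f i) g).app V ≫
        (pullback (f i) g).presheaf.map (homOfLE _).op) t = 0
      rw [CategoryTheory.comp_apply, ht i, map_zero]
    have hT := CommRingCat.isPushout_tensorProduct Γ(X, U) Γ(X', U') (G ⟨i, W, hW, hWU⟩)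
    let e := (hT.isoIsPushout _ _ hP).commRingCatIsoToRingEquiv
    rw [LinearMap.baseChange_tmul, Algebra.linearMap_apply, map_one]
    apply e.injective
    rw [map_zero]
    exact (congr($(hT.inl_isoIsPushout_hom _ _ hP) s)).trans h1
  have h2 := congrArg (Algebra.TensorProduct.rid Γ(X, U) Γ(X, U) Γ(X', U')) key
  rw [map_zero, Algebra.TensorProduct.rid_tmul, one_smul] at h2
  exact h2

end Sep43Lib
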