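import Groth.Agent.Sep43Lib.DenseAlg
import Groth.Agent.Sep43Lib.Schematic
import Groth.Prelude.Def_CInt

/-!
# Universally schematically dense open subschemes and fibres
-/

set_option autoImplicit false
universe u

open CategoryTheory CategoryTheory.Limits AlgebraicGeometry TopologicalSpace Opposite TensorProduct

noncomputable section

namespace Sep43Lib

variable {X : Scheme.{u}}

/-- The functions whose nonvanishing locus lies in an open subset. -/
def openIdeal {UX : X.Opens} (U : X.Opens) : Ideal Γ(X, UX) where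
  carrier := {a | X.basicOpen a ≤ U}
  add_mem' := fun {a b} ha hb => (X.basicOpen_add_le a b).trans (sup_le ha hb)
  zero_mem' := by simp
  smul_mem' := fun r a ha => by
    show X.basicOpen (r * a) ≤ U
    rw [Scheme.basicOpen_mul]
    exact inf_le_right.trans ha

theorem mem_openIdeal {UX : X.Opens} {U : X.Opens} {a : Γ(X, UX)} : a ∈ openIdeal U ↔ X.basicOpen a ≤ U :=
  Iff.rfl

theorem res_inf_eq_zero {Y : Scheme.{u}} (q : Y ⟶ X) {UX U : X.Opens} (hUX : IsAffineOpen UX) {U' V : Y.Opens}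
    (hle : U' ≤ q ⁻¹ᵁ UX) (hV : V ≤ U') (z : Γ(Y, U')) 
    (h : ∀ a ∈ openIdeal (UX := UX) U, ∀ (W : Y.Opens) (hW : W ≤ U'), W ≤ V → W ≤ Y.basicOpen (q.appLE UX U' hle a) →
      Y.presheaf.map (homOfLE hW).op z = 0) :
    Y.presheaf.map (homOfLE (inf_le_left.trans hV : V ⊓ q ⁻¹ᵁ U ≤ U')).op z = 0 := by
  refine eq_zero_of_forall_nhds _ fun y hy => ?_
  obtain ⟨a, ha, hya⟩ := QCohLib.exists_basicOpen_nhd hUX (V := U) hy.2 (hle (hV hy.1))
  refine ⟨V ⊓ q ⁻¹ᵁ U ⊓ Y.basicOpen (q.appLE UX U' hle a), inf_le_left, ⟨hy, ?_⟩, ?_⟩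
  · rw [Scheme.basicOpen_appLE]
    exact ⟨hV hy.1, hya⟩
  · rw [← CategoryTheory.comp_apply, ← Functor.map_comp]
    exact h a ha _ (inf_le_left.trans (inf_le_left.trans hV)) (inf_le_left.trans inf_le_left) inf_le_right

theorem exists_pow_mul_of_res {Y : Scheme.{u}} {U' : Y.Opens} (hU' : IsAffineOpen U') (b z : Γ(Y, U'))
    (h : Y.presheaf.map (homOfLE (Y.basicOpen_le b)).op z = 0) : ∃ n : ℕ, b ^ n * z = 0 := by
  haveI := hU'.isLocalization_basicOpen b
  obtain ⟨⟨_, n, rfl⟩, hn⟩ :=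
    (IsLocalization.map_eq_zero_iff (Submonoid.powers b) Γ(Y, Y.basicOpen b) z).mp h
  exact ⟨n, hn⟩

theorem res_eq_zero_of_pow_mul {Y : Scheme.{u}} {U' W : Y.Opens} (b z : Γ(Y, U')) {n : ℕ} (h : b ^ n * z = 0)
    (hW : W ≤ U') (hWb : W ≤ Y.basicOpen b) : Y.presheaf.map (homOfLE hW).op z = 0 := by
  have hu : IsUnit (Y.presheaf.map (homOfLE hW).op b) := by
    rw [show homOfLE hW = homOfLE hWb ≫ homOfLE (Y.basicOpen_le b) from Subsingleton.elim _ _, op_comp,
      Functor.map_comp, CategoryTheory.comp_apply]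
    exact (RingedSpace.isUnit_res_basicOpen Y.toRingedSpace b).map _
  have h1 := congrArg (Y.presheaf.map (homOfLE hW).op) h
  rw [map_mul, map_pow, map_zero] at h1
  exact (hu.pow n).mul_right_eq_zero.mp h1

variable {S : Scheme.{u}} (f : X ⟶ S) [Flat f] [LocallyOfFinitePresentation f] (U : X.Opens)

/-- Fibrewise schematic density is universal. -/
theorem dense_pullback_of_fibres (h : ∀ s : S, CInt.IsSchematicallyDense ((f.fiberι s) ⁻¹ᵁ U))
    (S' : Scheme.{u}) (g : S' ⟶ S) : CInt.IsSchematicallyDense ((pullback.fst f g) ⁻¹ᵁ U) := by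
  intro V
  rw [injective_iff_map_eq_zero]
  intro t ht
  refine eq_zero_of_forall_nhds t fun x hx => ?_
  obtain ⟨Us, hUs, hxUs⟩ := QCohLib.exists_affine_nhd (f (pullback.fst f g x))
  obtain ⟨UX, hUX, hxUX, hUXle⟩ :=
    Opens.isBasis_iff_nbhd.mp X.isBasis_affineOpens (U := f ⁻¹ᵁ Us) (x := pullback.fst f g x) hxUs
  have hxW : pullback.snd f g x ∈ g ⁻¹ᵁ Us := by
    show g (pullback.snd f g x) ∈ Us
    rwa [← Scheme.Hom.comp_apply, ← pullback.condition, Scheme.Hom.comp_apply]
  obtain ⟨W, hW, hxW', hWle⟩ :=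
    Opens.isBasis_iff_nbhd.mp S'.isBasis_affineOpens (U := g ⁻¹ᵁ Us) (x := pullback.snd f g x) hxW
  let H := IsPullback.of_hasPullback f g
  have hU' := RpushLib.isAffineOpen_fibre H hUs hW hWle hUX hUXle
  have hP := RpushLib.isPushout_sections H hUs hW hWle hUX hUXle
  set U' := pullback.fst f g ⁻¹ᵁ UX ⊓ pullback.snd f g ⁻¹ᵁ W
  letI : Algebra Γ(S, Us) Γ(X, UX) := (f.appLE Us UX hUXle).hom.toAlgebra
  letI : Algebra Γ(S, Us) Γ(S', W) := (g.appLE Us W hWle).hom.toAlgebra
  haveI : Module.Flat Γ(S, Us) Γ(X, UX) := f.flat_appLE hUs hUX hUXle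
  haveI : Algebra.FinitePresentation Γ(S, Us) Γ(X, UX) := f.finitePresentation_appLE hUs hUX hUXle
  have hT := CommRingCat.isPushout_tensorProduct Γ(S, Us) Γ(X, UX) Γ(S', W)
  let e := (hT.isoIsPushout _ _ hP).commRingCatIsoToRingEquiv
  have he : ∀ a, e (a ⊗ₜ 1) = (pullback.fst f g).appLE UX U' inf_le_left a := fun a =>
    congr($(hT.inl_isoIsPushout_hom _ _ hP) a)
  obtain ⟨f0, hfV, hxf⟩ := QCohLib.exists_basicOpen_nhd hU' (V := V) hx ⟨hxUX, hxW'⟩
  refine ⟨_, hfV, hxf, ?_⟩
  haveI := hU'.isLocalization_basicOpen f0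
  obtain ⟨⟨z, _, k, rfl⟩, hk⟩ := IsLocalization.surj (Submonoid.powers f0)
    ((pullback f g).presheaf.map (homOfLE hfV).op t)
  change (pullback f g).presheaf.map (homOfLE hfV).op t * algebraMap _ _ (f0 ^ k) = algebraMap _ _ z at hk
  obtain ⟨z, rfl⟩ := e.surjective z
  obtain ⟨f1, rfl⟩ := e.surjective f0
  have hu : IsUnit (algebraMap Γ(pullback f g, U') Γ(pullback f g, (pullback f g).basicOpen (e f1)) (e f1)) :=
    IsLocalization.Away.algebraMap_isUnit _
  suffices hz0 : ∃ n : ℕ, f1 ^ n * z = 0 by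
    obtain ⟨n, hn⟩ := hz0
    have h1 := congrArg (algebraMap Γ(pullback f g, U') Γ(pullback f g, (pullback f g).basicOpen (e f1))) (congrArg e hn)
    rw [map_mul, map_pow, map_mul, map_pow, map_zero, map_zero, (hu.pow n).mul_right_eq_zero] at h1
    rw [h1, map_pow, (hu.pow k).mul_left_eq_zero] at hk
    exact hk
  refine eq_zero_of_fibrewise_dense (R := Γ(S, Us)) (openIdeal (UX := UX) U) (fun p _ => ?_) f1 z
    fun a ha => ?_
  · let s := hUs.fromSpec ⟨p, inferInstance⟩
    have hs : s ∈ Us := hUs.range_fromSpec.le ⟨_, rfl⟩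
    let c := S.fromSpecResidueField s
    have hc : (⊤ : (Spec (S.residueField s)).Opens) ≤ c ⁻¹ᵁ Us := fun y _ => by
      show c y ∈ Us
      rwa [Scheme.fromSpecResidueField_apply]
    letI : Algebra Γ(S, Us) Γ(Spec (S.residueField s), ⊤) := (c.appLE Us ⊤ hc).hom.toAlgebra
    have hfld : IsField Γ(Spec (S.residueField s), ⊤) :=
      MulEquiv.isField (Field.toIsField (S.residueField s))
        (Scheme.ΓSpecIso (S.residueField s)).commRingCatIsoToRingEquiv.toMulEquiv
    letI : Field Γ(Spec (S.residueField s), ⊤) := hfld.toField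
    refine dense_residueField_of_field p _ Γ(Spec (S.residueField s), ⊤) ?_ fun y hy => ?_
    · have hcomap := IsAffineOpen.comap_primeIdealOf_appLE Us hUs ⊤ (isAffineOpen_top (Spec (S.residueField s))) hc
        (x := IsLocalRing.closedPoint _) trivial
      have hp : hUs.primeIdealOf ⟨s, hs⟩ = ⟨p, inferInstance⟩ :=
        hUs.fromSpec.isOpenEmbedding.injective (hUs.fromSpec_primeIdealOf _)
      have hcx : c (IsLocalRing.closedPoint _) = s := Scheme.fromSpecResidueField_apply ..
      have e2 : (hUs.primeIdealOf ⟨c (IsLocalRing.closedPoint _), hc trivial⟩).asIdeal = p := by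
        simp only [hcx]
        exact congrArg PrimeSpectrum.asIdeal hp
      rw [← e2, ← hcomap, PrimeSpectrum.comap_asIdeal, RingHom.ker_eq_comap_bot]
      congr 1
      exact (Ideal.eq_bot_of_prime _).symm
    let H' := IsPullback.of_hasPullback f c
    have hV' := RpushLib.isAffineOpen_fibre H' hUs (isAffineOpen_top _) hc hUX hUXle
    have hP' := RpushLib.isPushout_sections H' hUs (isAffineOpen_top _) hc hUX hUXle
    set V' := pullback.fst f c ⁻¹ᵁ UX ⊓ pullback.snd f c ⁻¹ᵁ ⊤
    have hT' := CommRingCat.isPushout_tensorProduct Γ(S, Us) Γ(X, UX) Γ(Spec (S.residueField s), ⊤)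
    let e' := (hT'.isoIsPushout _ _ hP').commRingCatIsoToRingEquiv
    apply e'.injective
    rw [map_zero]
    refine ((injective_iff_map_eq_zero _).mp (h s V') _ ?_)
    refine res_inf_eq_zero (pullback.fst f c) hUX inf_le_left le_rfl _ fun a ha W hW _ hWa => ?_
    obtain ⟨n, hn⟩ := hy a ha
    refine res_eq_zero_of_pow_mul _ _ (n := n) ?_ hW hWa
    have := congrArg e' hn
    rwa [map_mul, map_pow, map_zero, show e' (a ⊗ₜ 1) = (pullback.fst f c).appLE UX V' inf_le_left a from
      congr($(hT'.inl_isoIsPushout_hom _ _ hP') a)] at this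
  · suffices h0 : (pullback f g).presheaf.map
        (homOfLE ((pullback f g).basicOpen_le (e f1 * e (a ⊗ₜ 1)))).op (e z) = 0 by
      obtain ⟨n, hn⟩ := exists_pow_mul_of_res hU' _ _ h0
      refine ⟨n, e.injective ?_⟩
      rw [map_mul, map_pow, map_mul, map_pow, map_zero, ← mul_assoc, ← mul_pow]
      exact hn
    have hWV : (pullback f g).basicOpen (e f1 * e (a ⊗ₜ 1)) ≤ V ⊓ pullback.fst f g ⁻¹ᵁ U := by
      rw [Scheme.basicOpen_mul, he, Scheme.basicOpen_appLE]
      exact le_inf (inf_le_left.trans hfV) ((inf_le_right.trans inf_le_right).trans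
        ((pullback.fst f g).preimage_mono ha))
    have hWf : (pullback f g).basicOpen (e f1 * e (a ⊗ₜ 1)) ≤ (pullback f g).basicOpen (e f1) := by
      rw [Scheme.basicOpen_mul]; exact inf_le_left
    have h1 : (pullback f g).presheaf.map (homOfLE hWf).op ((pullback f g).presheaf.map (homOfLE hfV).op t) = 0 := by
      have := congrArg ((pullback f g).presheaf.map (homOfLE hWV).op) ht
      rw [map_zero, ← CategoryTheory.comp_apply, ← Functor.map_comp] at this
      rw [← CategoryTheory.comp_apply, ← Functor.map_comp]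
      exact this
    have h2 := congrArg ((pullback f g).presheaf.map (homOfLE hWf).op) hk
    rw [map_mul, h1, zero_mul] at h2
    refine Eq.trans ?_ h2.symm
    show _ = (pullback f g).presheaf.map (homOfLE hWf).op
      ((pullback f g).presheaf.map (homOfLE ((pullback f g).basicOpen_le (e f1))).op (e z))
    rw [← CategoryTheory.comp_apply, ← Functor.map_comp]
    rfl

end Sep43Lib
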