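import Groth.Agent.Sep43Lib.FP
import Groth.Agent.KFlatLib.AffinePull
import Groth.Agent.QCohLib.Coherent
import Groth.Agent.QCohLib.Affine
import Groth.Agent.QCohLib.AffineFinite

/-!
# Separating families of homomorphisms of quasi-coherent modules and their pullbacks
-/

set_option autoImplicit false
universe u

open CategoryTheory AlgebraicGeometry TopologicalSpace Opposite TensorProduct

noncomputable section

namespace Sep43Lib

variable {X X' : Scheme.{u}} (F : X.Modules) {ι : Type u} (G : ι → X.Modules) (u : ∀ i, F ⟶ G i)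

/-- A family of homomorphisms is separating on sections over every open subset. -/
def SepMod : Prop :=
  ∀ (V : X.Opens) (t : Γ(F, V)), (∀ i, (Scheme.Modules.Hom.mapPresheaf (u i)).app (op V) t = 0) → t = 0

/-- The family of maps on sections over `U`. -/
def secFam (U : X.Opens) : ∀ i, Γ(F, U) →ₗ[Γ(X, U)] Γ(G i, U) := fun i => QCohLib.appLin (u i) U

variable {F G u}

theorem sep_secFam (h : SepMod F G u) (U : X.Opens) : Sep (secFam F G u U) := fun x hx => h U x hx

theorem sepMod_of_nhds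
    (h : ∀ (V : X.Opens) (x : X), x ∈ V → ∃ W ≤ V, x ∈ W ∧ Sep (secFam F G u W)) : SepMod F G u := by
  intro V t ht
  refine TopCat.Presheaf.section_ext ⟨F.presheaf, F.isSheaf⟩ V t 0 fun x hx => ?_
  obtain ⟨W, hW, hxW, hsep⟩ := h V x hx
  have h0 : F.presheaf.map (homOfLE hW).op t = 0 := hsep _ fun i => by
    show (u i).app W (F.presheaf.map (homOfLE hW).op t) = 0
    rw [QCohLib.app_map]
    exact (congrArg _ (ht i)).trans (map_zero _)
  show F.presheaf.germ V x hx t = F.presheaf.germ V x hx 0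
  rw [map_zero, ← TopCat.Presheaf.germ_res_apply F.presheaf (homOfLE hW) x hxW t, h0, map_zero]

theorem res_smul_pow {M : X.Modules} {U : X.Opens} (f : Γ(X, U)) (n : ℕ) (x : Γ(M, U)) :
    M.presheaf.map (homOfLE (X.basicOpen_le f)).op (f ^ n • x) =
      (X.presheaf.map (homOfLE (X.basicOpen_le f)).op f) ^ n • M.presheaf.map (homOfLE (X.basicOpen_le f)).op x := by
  rw [QCohLib.map_smul', map_pow]

theorem isUnit_res_basicOpen {U : X.Opens} (f : Γ(X, U)) :
    IsUnit (X.presheaf.map (homOfLE (X.basicOpen_le f)).op f) :=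
  RingedSpace.isUnit_res_basicOpen X.toRingedSpace f

theorem exists_pow_smul_of_res {M : X.Modules} [Coh.IsQCoh M] {U : X.Opens} (hU : IsAffineOpen U) (f : Γ(X, U))
    (x : Γ(M, U)) (h : M.presheaf.map (homOfLE (X.basicOpen_le f)).op x = 0) : ∃ n : ℕ, f ^ n • x = 0 := by
  obtain ⟨n, hn⟩ := (QCohLib.localizingAt_of_isQCoh hU M f).eq_zero x h
  refine ⟨n, ?_⟩
  simp only [homOfLE_refl, op_id, CategoryTheory.Functor.map_id] at hn
  exact hn

theorem res_eq_zero_of_pow_smul {M : X.Modules} {U : X.Opens} (f : Γ(X, U)) {x : Γ(M, U)} {n : ℕ}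
    (h : f ^ n • x = 0) : M.presheaf.map (homOfLE (X.basicOpen_le f)).op x = 0 := by
  have := congrArg (M.presheaf.map (homOfLE (X.basicOpen_le f)).op) h
  rw [res_smul_pow, map_zero] at this
  exact ((isUnit_res_basicOpen f).pow n).smul_eq_zero.mp this

theorem lSep_secFam [Coh.IsQCoh F] (h : SepMod F G u) {U : X.Opens} (hU : IsAffineOpen U) :
    LSep (secFam F G u U) := by
  intro f x hx
  refine exists_pow_smul_of_res hU f x (sep_secFam h (X.basicOpen f) _ fun i => ?_)
  obtain ⟨n, hn⟩ := hx i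
  show (u i).app _ (F.presheaf.map _ x) = 0
  rw [QCohLib.app_map]
  exact res_eq_zero_of_pow_smul f hn

theorem sep_basicOpen [Coh.IsQCoh F] [∀ i, Coh.IsQCoh (G i)] {U : X.Opens} (hU : IsAffineOpen U)
    (h : LSep (secFam F G u U)) (f : Γ(X, U)) : Sep (secFam F G u (X.basicOpen f)) := by
  intro t ht
  obtain ⟨k, x, hx⟩ := (QCohLib.localizingAt_of_isQCoh hU F f).exists_extend t
  obtain ⟨m, hm⟩ := h f x fun i => exists_pow_smul_of_res hU f _ (by
    show (G i).presheaf.map _ ((u i).app U x) = 0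
    rw [← QCohLib.app_map, hx, QCohLib.app_smul]
    exact (congrArg _ (ht i)).trans (smul_zero _))
  have h0 := res_eq_zero_of_pow_smul f hm
  rw [hx] at h0
  exact ((isUnit_res_basicOpen f).pow k).smul_eq_zero.mp h0

section Pullback

variable (g : X' ⟶ X) [Coh.IsQCoh F] [∀ i, Coh.IsQCoh (G i)]

/-- The pulled back family. -/
abbrev pbFam : ∀ i, (Scheme.Modules.pullback g).obj F ⟶ (Scheme.Modules.pullback g).obj (G i) :=
  fun i => (Scheme.Modules.pullback g).map (u i)

theorem puSecLE_natural {M N : X.Modules} (φ : M ⟶ N) {U : X.Opens} {W : X'.Opens}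
    (h : W ≤ g ⁻¹ᵁ U) (m : Γ(M, U)) :
    ((Scheme.Modules.pullback g).map φ).app W (KFlatLib.puSecLE g M h m) = KFlatLib.puSecLE g N h (φ.app U m) :=
  (QCohLib.app_map ((Scheme.Modules.pullback g).map φ) (homOfLE h) (KFlatLib.puSec g m)).trans
    (congrArg (((Scheme.Modules.pullback g).obj N).presheaf.map (homOfLE h).op)
      (KFlatLib.puSec_natural g φ m))

variable {U : X.Opens} {U' : X'.Opens} (h : U' ≤ g ⁻¹ᵁ U)

/-- Sections of the pullback on affine opens as a tensor product, compatibly with the maps. -/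
theorem exists_puEquiv (hU : IsAffineOpen U) (hU' : IsAffineOpen U') :
    letI := (g.appLE U U' h).hom.toAlgebra
    ∃ (eF : Γ(X', U') ⊗[Γ(X, U)] Γ(F, U) ≃ₗ[Γ(X', U')] Γ((Scheme.Modules.pullback g).obj F, U'))
      (eG : ∀ i, Γ(X', U') ⊗[Γ(X, U)] Γ(G i, U) ≃ₗ[Γ(X', U')] Γ((Scheme.Modules.pullback g).obj (G i), U')),
      (∀ i z, secFam _ _ (pbFam (u := u) g) U' i (eF z) = eG i ((secFam F G u U i).baseChange Γ(X', U') z)) ∧
      ∀ m, eF ((1 : Γ(X', U')) ⊗ₜ m) = KFlatLib.puSecLE g F h m := by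
  letI := (g.appLE U U' h).hom.toAlgebra
  have ex : ∀ (M : X.Modules) [Coh.IsQCoh M],
      ∃ e : Γ(X', U') ⊗[Γ(X, U)] Γ(M, U) ≃ₗ[Γ(X', U')] Γ((Scheme.Modules.pullback g).obj M, U'),
        ∀ b m, e (b ⊗ₜ m) = b • KFlatLib.puSecLE g M h m := by
    intro M _
    letI := Module.compHom Γ((Scheme.Modules.pullback g).obj M, U') (algebraMap Γ(X, U) Γ(X', U'))
    haveI : IsScalarTower Γ(X, U) Γ(X', U') Γ((Scheme.Modules.pullback g).obj M, U') :=
      IsScalarTower.of_algebraMap_smul fun _ _ => rfl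
    let ψ : Γ(M, U) →ₗ[Γ(X, U)] Γ((Scheme.Modules.pullback g).obj M, U') :=
      { toFun := KFlatLib.puSecLE g M h
        map_add' := map_add _
        map_smul' := fun r m => KFlatLib.puSecLE_smul g M h r m }
    have hψ := KFlatLib.isBaseChange_puSec g M hU hU' h (fun _ => rfl) ψ (fun _ => rfl)
    exact ⟨hψ.equiv, fun b m => hψ.equiv_tmul b m⟩
  obtain ⟨eF, heF⟩ := ex F
  choose eG heG using fun i => ex (G i)
  refine ⟨eF, eG, fun i z => ?_, fun m => by rw [heF, one_smul]⟩
  induction z using TensorProduct.induction_on with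
  | zero => simp
  | tmul b m =>
    rw [LinearMap.baseChange_tmul, heG, heF, map_smul]
    exact congrArg (b • ·) (puSecLE_natural g (u i) h m)
  | add a b ha hb => simp only [map_add, ha, hb]

theorem sep_pullback (hU : IsAffineOpen U) (hU' : IsAffineOpen U')
    (H : letI := (g.appLE U U' h).hom.toAlgebra
      Sep fun i => (secFam F G u U i).baseChange Γ(X', U')) :
    Sep (secFam _ _ (pbFam (u := u) g) U') := by
  obtain ⟨eF, eG, he, -⟩ := exists_puEquiv (u := u) g h hU hU'
  intro t ht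
  obtain ⟨z, rfl⟩ := eF.surjective t
  rw [H z fun i => (eG i).injective (by rw [← he, ht i, map_zero]), map_zero]

theorem lSep_pullback (hU : IsAffineOpen U) (hU' : IsAffineOpen U')
    (H : letI := (g.appLE U U' h).hom.toAlgebra
      LSep fun i => (secFam F G u U i).baseChange Γ(X', U')) :
    LSep (secFam _ _ (pbFam (u := u) g) U') := by
  obtain ⟨eF, eG, he, -⟩ := exists_puEquiv (u := u) g h hU hU'
  intro f t ht
  obtain ⟨z, rfl⟩ := eF.surjective t
  obtain ⟨n, hn⟩ := H f z fun i => by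
    obtain ⟨n, hn⟩ := ht i
    exact ⟨n, (eG i).injective (by rw [map_smul, ← he, hn, map_zero])⟩
  exact ⟨n, by rw [← map_smul, hn, map_zero]⟩

/-- To check that a pullback is separating it suffices to look at affine opens over affine opens. -/
theorem sepMod_pullback_of_affine
    (H : ∀ (U : X.Opens), IsAffineOpen U → ∀ (U' : X'.Opens), IsAffineOpen U' → ∀ (h : U' ≤ g ⁻¹ᵁ U),
      Sep (secFam _ _ (pbFam (u := u) g) U')) : SepMod _ _ (pbFam (u := u) g) := by
  refine sepMod_of_nhds fun V x hx => ?_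
  obtain ⟨U, hU, hxU⟩ := QCohLib.exists_affine_nhd (g x)
  obtain ⟨U', hU', hxU', hle⟩ :=
    Opens.isBasis_iff_nbhd.mp X'.isBasis_affineOpens (U := V ⊓ g ⁻¹ᵁ U) (x := x) ⟨hx, hxU⟩
  exact ⟨U', hle.trans inf_le_left, hxU', H U hU U' hU' (hle.trans inf_le_right)⟩

omit g in
/-- Descent of separation along a jointly surjective family of flat morphisms. -/
theorem sepMod_of_flat_family (hcov : ∀ x : X, ∃ (X' : Scheme.{u}) (g : X' ⟶ X) (_ : Flat g),
    x ∈ Set.range g ∧ SepMod _ _ (pbFam (u := u) g)) : SepMod F G u := by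
  refine sepMod_of_nhds fun V x hx => ?_
  obtain ⟨U, hU, hxU, hle⟩ := Opens.isBasis_iff_nbhd.mp X.isBasis_affineOpens (U := V) (x := x) hx
  refine ⟨U, hle, hxU, fun t ht => ?_⟩
  have key : ∀ q : PrimeSpectrum Γ(X, U), ∃ a ∉ q.asIdeal, a • t = 0 := by
    intro q
    obtain ⟨X', g, _, ⟨x', hx'⟩, h⟩ := hcov (hU.fromSpec q)
    have hxq : g x' ∈ U := hx' ▸ hU.range_fromSpec.le ⟨q, rfl⟩
    obtain ⟨U', hU', hxU', h'⟩ :=
      Opens.isBasis_iff_nbhd.mp X'.isBasis_affineOpens (U := g ⁻¹ᵁ U) (x := x') hxq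
    letI := (g.appLE U U' h').hom.toAlgebra
    haveI : Module.Flat Γ(X, U) Γ(X', U') := g.flat_appLE hU hU' h'
    obtain ⟨eF, eG, he, hone⟩ := exists_puEquiv (u := u) g h' hU hU'
    have h0 : eF ((1 : Γ(X', U')) ⊗ₜ t) = 0 := h U' _ fun i => by
      refine (he i _).trans ?_
      rw [LinearMap.baseChange_tmul, show secFam F G u U i t = 0 from ht i, TensorProduct.tmul_zero, map_zero]
    obtain ⟨a, ha, ha'⟩ := exists_smul_eq_zero_of_tmul Γ(X', U') (eF.map_eq_zero_iff.mp h0)
      (hU'.primeIdealOf ⟨x', hxU'⟩).asIdeal (hU'.primeIdealOf ⟨x', hxU'⟩).isPrime.ne_top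
    refine ⟨a, fun hq => ha ?_, ha'⟩
    have e := IsAffineOpen.comap_primeIdealOf_appLE U hU U' hU' h' hxU'
    have hq' : hU.primeIdealOf ⟨g x', hxq⟩ = q := hU.fromSpec.isOpenEmbedding.injective
      ((hU.fromSpec_primeIdealOf _).trans hx')
    show a ∈ (PrimeSpectrum.comap (g.appLE U U' h').hom (hU'.primeIdealOf ⟨x', hxU'⟩)).asIdeal
    rw [e, hq']
    exact hq
  let I : Ideal Γ(X, U) := LinearMap.ker (LinearMap.toSpanSingleton Γ(X, U) Γ(F, U) t)
  have hI : I = ⊤ := by
    by_contra hne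
    obtain ⟨m, hm, hIm⟩ := Ideal.exists_le_maximal I hne
    obtain ⟨a, ha, ha'⟩ := key ⟨m, hm.isPrime⟩
    exact ha (hIm (LinearMap.mem_ker.mpr ha'))
  have h1 : (1 : Γ(X, U)) ∈ I := hI ▸ Submodule.mem_top
  simpa [I] using h1

/-- Descent of separation along faithfully flat morphisms. -/
theorem sepMod_of_faithfullyFlat [Flat g] [Surjective g] (h : SepMod _ _ (pbFam (u := u) g)) : SepMod F G u :=
  sepMod_of_flat_family fun x => ⟨X', g, inferInstance, g.surjective x, h⟩

/-- Flat pullback of a finite separating family. -/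
theorem sepMod_pullback_of_finite [Flat g] [Finite ι] (h : SepMod F G u) : SepMod _ _ (pbFam (u := u) g) :=
  sepMod_pullback_of_affine g fun U hU U' hU' hle => sep_pullback g hle hU hU' (by
    letI := (g.appLE U U' hle).hom.toAlgebra
    haveI : Module.Flat Γ(X, U) Γ(X', U') := g.flat_appLE hU hU' hle
    exact sep_of_finite _ _ (sep_secFam h U))

/-- Pullback of a separating family along a flat morphism locally of finite presentation. -/
theorem sepMod_pullback_of_fp [Flat g] [LocallyOfFinitePresentation g] (h : SepMod F G u) :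
    SepMod _ _ (pbFam (u := u) g) :=
  sepMod_pullback_of_affine g fun U hU U' hU' hle => sep_pullback g hle hU hU' (by
    letI := (g.appLE U U' hle).hom.toAlgebra
    haveI : Module.Flat Γ(X, U) Γ(X', U') := g.flat_appLE hU hU' hle
    haveI : Algebra.FinitePresentation Γ(X, U) Γ(X', U') := g.finitePresentation_appLE hU hU' hle
    exact sep_of_fp _ _ (lSep_secFam h hU))

/-- Flat pullback of a separating family on an Artinian scheme. -/
theorem sepMod_pullback_of_artinian [Flat g] [IsNoetherian X] (hX : topologicalKrullDim X ≤ 0)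
    (h : SepMod F G u) : SepMod _ _ (pbFam (u := u) g) :=
  sepMod_pullback_of_affine g fun U hU U' hU' hle => sep_pullback g hle hU hU' (by
    letI := (g.appLE U U' hle).hom.toAlgebra
    haveI : Module.Flat Γ(X, U) Γ(X', U') := g.flat_appLE hU hU' hle
    haveI : IsNoetherianRing Γ(X, U) := IsLocallyNoetherian.component_noetherian ⟨U, hU⟩
    haveI : IsArtinianRing Γ(X, U) := by
      rw [isArtinianRing_iff_krullDimLE_zero, Ring.KrullDimLE, Order.krullDimLE_iff]
      refine le_trans ?_ hX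
      show ringKrullDim Γ(X, U) ≤ _
      rw [← PrimeSpectrum.topologicalKrullDim_eq_ringKrullDim]
      exact hU.fromSpec.isOpenEmbedding.isInducing.topologicalKrullDim_le
    haveI := projective_of_flat_artinian (A := Γ(X, U)) Γ(X', U')
    exact sep_of_projective _ _ (sep_secFam h U))

end Pullback

end Sep43Lib
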