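import Groth.Agent.Sep43Lib.Fibres

/-!
# Universally separating families over an arbitrary base
-/

set_option autoImplicit false
universe u

open CategoryTheory CategoryTheory.Limits AlgebraicGeometry TopologicalSpace Opposite TensorProduct

noncomputable section

namespace Sep43Lib

variable {X S : Scheme.{u}} {ι : Type u}

/-- Fibrewise separation is universal. -/
theorem sepMod_pullback_of_fibres [IsLocallyNoetherian X] (p : X ⟶ S) {F : X.Modules} (hF : Coh.IsCoh F)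
    {G : ι → X.Modules} [∀ i, Coh.IsQCoh (G i)] (hG : ∀ i, FlatMod.IsFlatOver p (G i)) {v : ∀ i, F ⟶ G i}
    (h : ∀ s : S, SepMod _ _ (pbFam (u := v) (p.fiberι s))) {S' : Scheme.{u}} (g : S' ⟶ S) :
    SepMod _ _ (pbFam (u := v) (pullback.fst p g)) := by
  haveI : Coh.IsQCoh F := hF.1
  haveI := KFlatLib.isQCoh_pullback (pullback.fst p g) F
  haveI : ∀ i, Coh.IsQCoh ((Scheme.Modules.pullback (pullback.fst p g)).obj (G i)) := fun i =>
    KFlatLib.isQCoh_pullback _ _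
  refine sepMod_of_flat_family fun x => ?_
  obtain ⟨Us, hUs, hxUs⟩ := QCohLib.exists_affine_nhd (p (pullback.fst p g x))
  have hxW : pullback.snd p g x ∈ g ⁻¹ᵁ Us := by
    show g (pullback.snd p g x) ∈ Us
    rwa [← Scheme.Hom.comp_apply, ← pullback.condition, Scheme.Hom.comp_apply]
  obtain ⟨W, hW, hxW', hWle⟩ :=
    Opens.isBasis_iff_nbhd.mp S'.isBasis_affineOpens (U := g ⁻¹ᵁ Us) (x := pullback.snd p g x) hxW
  let p₀ : (p ⁻¹ᵁ Us : Scheme.{u}) ⟶ Spec Γ(S, Us) := (p ∣_ Us) ≫ hUs.isoSpec.hom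
  have hp₀ : p₀ ≫ hUs.fromSpec = (p ⁻¹ᵁ Us).ι ≫ p := by
    simp only [p₀, Category.assoc, IsAffineOpen.isoSpec_hom_fromSpec, morphismRestrict_ι]
  let φ := g.appLE Us W hWle
  have hφ : Spec.map φ ≫ hUs.fromSpec = hW.fromSpec ≫ g := IsAffineOpen.SpecMap_appLE_fromSpec g hUs hW hWle
  let j := pullback.map p₀ (Spec.map φ) p g (p ⁻¹ᵁ Us).ι hW.fromSpec hUs.fromSpec hp₀ hφ
  refine ⟨_, j, inferInstance, ?_, ?_⟩
  · rw [show Set.range j = _ from Scheme.Pullback.range_map p₀ (Spec.map φ) p g (p ⁻¹ᵁ Us).ι hW.fromSpec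
      hUs.fromSpec hp₀ hφ]
    exact ⟨by rw [Set.mem_preimage, Scheme.Opens.range_ι]; exact hxUs,
      by rw [Set.mem_preimage, hW.range_fromSpec]; exact hxW'⟩
  refine sepMod_iterate j (pullback.fst p g) ?_
  rw [show j ≫ pullback.fst p g = pullback.fst p₀ (Spec.map φ) ≫ (p ⁻¹ᵁ Us).ι from pullback.lift_fst _ _ _]
  refine sepMod_comp' _ _ ?_
  haveI : IsLocallyNoetherian (p ⁻¹ᵁ Us : Scheme.{u}) := isLocallyNoetherian_of_isOpenImmersion (p ⁻¹ᵁ Us).ι
  haveI : ∀ i, Coh.IsQCoh ((Scheme.Modules.pullback (p ⁻¹ᵁ Us).ι).obj (G i)) := fun i =>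
    KFlatLib.isQCoh_pullback _ _
  refine sepMod_pullback_of_fields p₀ (ConsLib.isCoh_pullback _ hF)
    (fun i y => (RichLib.ModFlat.isFlatOverAt_congr (p ⁻¹ᵁ Us).ι hUs.fromSpec hp₀ (Iso.refl _) y).2 (hG i _))
    (fun K _ c => ?_) φ
  refine sepMod_iterate _ _ ?_
  let d : Spec (CommRingCat.of K) ⟶ S := Spec.map c ≫ hUs.fromSpec
  let xf := Scheme.SpecToEquivOfField K S d
  have hd : Spec.map xf.2 ≫ S.fromSpecResidueField xf.1 = d := (Scheme.SpecToEquivOfField K S).left_inv d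
  have H : IsPullback (pullback.fst p₀ (Spec.map c) ≫ (p ⁻¹ᵁ Us).ι) (pullback.snd p₀ (Spec.map c)) p d := by
    refine (IsPullback.of_hasPullback p₀ (Spec.map c)).paste_horiz ?_
    refine (isPullback_morphismRestrict p Us).flip.of_iso (Iso.refl _) (Iso.refl _) hUs.isoSpec (Iso.refl _)
      ?_ ?_ ?_ ?_ <;> simp [p₀]
  let q := p.fiberToSpecResidueField xf.1
  have H' : IsPullback (pullback.fst q (Spec.map xf.2) ≫ p.fiberι xf.1) (pullback.snd q (Spec.map xf.2)) p d :=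
    hd ▸ (IsPullback.of_hasPullback q (Spec.map xf.2)).paste_horiz
      (IsPullback.of_hasPullback p (S.fromSpecResidueField xf.1))
  refine sepMod_of_iso (H'.isoIsPullback _ _ H).hom _ (H'.isoIsPullback_hom_fst _ _ H) ?_
  haveI := KFlatLib.isQCoh_pullback (p.fiberι xf.1) F
  haveI : ∀ i, Coh.IsQCoh ((Scheme.Modules.pullback (p.fiberι xf.1)).obj (G i)) := fun i =>
    KFlatLib.isQCoh_pullback _ _
  exact sepMod_comp' _ _ (sepMod_pullback_of_field q (Spec.map xf.2) (h xf.1))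

end Sep43Lib
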