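import Groth.Agent.Sep43Lib.Scheme
import Groth.Agent.RpushLib.HBase

/-!
# Separating families over a field
-/

set_option autoImplicit false
universe u

open CategoryTheory CategoryTheory.Limits AlgebraicGeometry TopologicalSpace Opposite TensorProduct

noncomputable section

namespace Sep43Lib

theorem lSep_congr {A B B' M : Type u} [CommRing A] [CommRing B] [CommRing B'] [Algebra A B] [Algebra A B']
    [AddCommGroup M] [Module A M] {ι : Type u} {G : ι → Type u} [∀ i, AddCommGroup (G i)]
    [∀ i, Module A (G i)] (u : ∀ i, M →ₗ[A] G i) (e : B' ≃ₐ[A] B)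
    (h : LSep fun i => (u i).baseChange B') : LSep fun i => (u i).baseChange B := by
  have hsmul : ∀ (N : Type u) [AddCommGroup N] [Module A N] (b : B) (z : B ⊗[A] N),
      LinearMap.rTensor N e.symm.toLinearMap (b • z) = e.symm b • LinearMap.rTensor N e.symm.toLinearMap z :=
    fun N _ _ b z => by
      induction z using TensorProduct.induction_on with
      | zero => simp
      | tmul c x => simp [TensorProduct.smul_tmul']
      | add a c ha hc => simp only [smul_add, map_add, ha, hc]
  intro f z hz
  obtain ⟨n, hn⟩ := h (e.symm f) (LinearMap.rTensor M e.symm.toLinearMap z) fun i => by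
    obtain ⟨m, hm⟩ := hz i
    refine ⟨m, ?_⟩
    have : (u i).baseChange B' (LinearMap.rTensor M e.symm.toLinearMap z) =
        LinearMap.rTensor (G i) e.symm.toLinearMap ((u i).baseChange B z) := by
      clear hm hz
      induction z using TensorProduct.induction_on with
      | zero => simp
      | tmul c x => simp
      | add a c ha hc => simp only [map_add, ha, hc]
    rw [this, ← map_pow, ← hsmul, hm, map_zero]
  refine ⟨n, ?_⟩
  rw [← map_pow, ← hsmul] at hn
  have h2 := congrArg (LinearMap.rTensor M e.toLinearMap) hn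
  rw [map_zero, ← LinearMap.comp_apply, ← LinearMap.rTensor_comp] at h2
  simpa [show e.toLinearMap ∘ₗ e.symm.toLinearMap = LinearMap.id from LinearMap.ext fun x => e.apply_symm_apply x]
    using h2

variable {k : Type u} [Field k] {X S' : Scheme.{u}} (p : X ⟶ Spec (CommRingCat.of k))
  (q : S' ⟶ Spec (CommRingCat.of k)) {F : X.Modules} {ι : Type u} {G : ι → X.Modules} {u : ∀ i, F ⟶ G i}

/-- Pullback of a separating family along any extension of the base field. -/
theorem sepMod_pullback_of_field [Coh.IsQCoh F] [∀ i, Coh.IsQCoh (G i)] (h : SepMod F G u) :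
    SepMod _ _ (pbFam (u := u) (pullback.fst p q)) := by
  refine sepMod_of_nhds fun V x hx => ?_
  obtain ⟨U, hU, hxU⟩ := QCohLib.exists_affine_nhd (pullback.fst p q x)
  obtain ⟨W, hW, hxW⟩ := QCohLib.exists_affine_nhd (pullback.snd p q x)
  let H := IsPullback.of_hasPullback p q
  let T := (⊤ : (Spec (CommRingCat.of k)).Opens)
  have hU' := RpushLib.isAffineOpen_fibre H (US := T) (isAffineOpen_top _) hW le_top hU le_top
  set U' := pullback.fst p q ⁻¹ᵁ U ⊓ pullback.snd p q ⁻¹ᵁ W
  have hle : U' ≤ pullback.fst p q ⁻¹ᵁ U := inf_le_left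
  have hP := RpushLib.isPushout_sections H (US := T) (isAffineOpen_top _) hW le_top hU le_top
  have hfld : IsField Γ(Spec (CommRingCat.of k), T) :=
    MulEquiv.isField (Field.toIsField k) (Scheme.ΓSpecIso (CommRingCat.of k)).commRingCatIsoToRingEquiv.toMulEquiv
  letI : Field Γ(Spec (CommRingCat.of k), T) := hfld.toField
  letI : Algebra Γ(Spec (CommRingCat.of k), T) Γ(X, U) := (p.appLE T U le_top).hom.toAlgebra
  letI : Algebra Γ(Spec (CommRingCat.of k), T) Γ(S', W) := (q.appLE T W le_top).hom.toAlgebra
  letI := ((pullback.fst p q).appLE U U' hle).hom.toAlgebra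
  let R := Γ(X, U) ⊗[Γ(Spec (CommRingCat.of k), T)] Γ(S', W)
  have hT := CommRingCat.isPushout_tensorProduct Γ(Spec (CommRingCat.of k), T) Γ(X, U) Γ(S', W)
  let e : R ≃ₐ[Γ(X, U)] Γ(pullback p q, U') :=
    { (hT.isoIsPushout _ _ hP).commRingCatIsoToRingEquiv with
      commutes' := fun a => congr($(hT.inl_isoIsPushout_hom _ _ hP) a) }
  have hL : LSep (secFam _ _ (pbFam (u := u) (pullback.fst p q)) U') :=
    lSep_pullback _ hle hU hU' (lSep_congr _ e (lSep_of_field _ _ (lSep_secFam h hU)))
  haveI := KFlatLib.isQCoh_pullback (pullback.fst p q) F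
  haveI : ∀ i, Coh.IsQCoh ((Scheme.Modules.pullback (pullback.fst p q)).obj (G i)) := fun i =>
    KFlatLib.isQCoh_pullback _ _
  obtain ⟨f, hfV, hxf⟩ := QCohLib.exists_basicOpen_nhd hU' (V := V) hx ⟨hxU, hxW⟩
  exact ⟨_, hfV, hxf, sep_basicOpen hU' hL f⟩

end Sep43Lib
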