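import Groth.Agent.Sep43Lib.Prod

/-!
# Separating families and nilpotent thickenings
-/

set_option autoImplicit false
universe u

open CategoryTheory CategoryTheory.Limits AlgebraicGeometry TopologicalSpace Opposite TensorProduct

noncomputable section

namespace Sep43Lib

variable {A : Type u} [CommRing A] {M : Type u} [AddCommGroup M] [Module A M] {ι : Type u}
  {G : ι → Type u} [∀ i, AddCommGroup (G i)] [∀ i, Module A (G i)] (u : ∀ i, M →ₗ[A] G i)

theorem LSep.sep {w : ∀ i, M →ₗ[A] G i} (h : LSep w) : Sep w := fun z hz => by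
  obtain ⟨n, hn⟩ := h 1 z fun i => ⟨0, by rw [pow_zero, one_smul]; exact hz i⟩
  rwa [one_pow, one_smul] at hn

/-- Multiplication by the elements of an ideal. -/
def idealMul (I : Ideal A) (N : Type u) [AddCommGroup N] [Module A N] : ↥I ⊗[A] N →ₗ[A] N :=
  (TensorProduct.lid A N).toLinearMap ∘ₗ LinearMap.rTensor N (Submodule.subtype I)

theorem idealMul_tmul (I : Ideal A) (N : Type u) [AddCommGroup N] [Module A N] (a : I) (x : N) :
    idealMul I N (a ⊗ₜ x) = (a : A) • x := by simp [idealMul]

theorem exists_idealMul_eq {I : Ideal A} {x : M} (hx : x ∈ I • (⊤ : Submodule A M)) :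
    ∃ w, idealMul I M w = x :=
  Submodule.smul_induction_on hx (fun a ha y _ => ⟨⟨a, ha⟩ ⊗ₜ y, idealMul_tmul I M _ _⟩)
    fun x y ⟨a, ha⟩ ⟨b, hb⟩ => ⟨a + b, by rw [map_add, ha, hb]⟩

/-- Elements killed by a family with flat targets lie in all powers of an ideal modulo which the family is
separating, when the successive quotients of the powers are projective. -/
theorem mem_pow_smul_of_sep [∀ i, Module.Flat A (G i)] (J : Ideal A)
    (hproj : ∀ n : ℕ, Module.Projective (A ⧸ J) ((A ⧸ J) ⊗[A] ↥(J ^ n)))
    (h : Sep fun i => (u i).baseChange (A ⧸ J)) {x : M} (hx : ∀ i, u i x = 0) (n : ℕ) :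
    x ∈ J ^ n • (⊤ : Submodule A M) := by
  induction n with
  | zero => simp
  | succ n ih =>
    obtain ⟨w, hw⟩ := exists_idealMul_eq ih
    have hnat : ∀ i, idealMul (J ^ n) (G i) (LinearMap.lTensor (↥(J ^ n)) (u i) w) =
        u i (idealMul (J ^ n) M w) := fun i => by
      clear hw
      induction w using TensorProduct.induction_on with
      | zero => simp
      | tmul a y => simp [idealMul_tmul]
      | add a b ha hb => simp only [map_add, ha, hb]
    have huw : ∀ i, LinearMap.lTensor (↥(J ^ n)) (u i) w = 0 := fun i => by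
      apply Module.Flat.rTensor_preserves_injective_linearMap (M := G i) (Submodule.subtype (J ^ n))
        Subtype.val_injective
      apply (TensorProduct.lid A (G i)).injective
      rw [map_zero, map_zero]
      show idealMul (J ^ n) (G i) (LinearMap.lTensor (↥(J ^ n)) (u i) w) = 0
      rw [hnat, hw, hx]
    have h0 : (1 : A ⧸ J) ⊗ₜ[A] w = 0 := by
      apply (TensorProduct.assoc A (A ⧸ J) (↥(J ^ n)) M).symm.injective
      rw [map_zero]
      haveI := hproj n
      refine eq_zero_of_functionals (L := A ⧸ J) _ fun φ => h _ fun i => ?_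
      have : (u i).baseChange (A ⧸ J) (LinearMap.rTensor M (φ.restrictScalars A)
          ((TensorProduct.assoc A (A ⧸ J) (↥(J ^ n)) M).symm ((1 : A ⧸ J) ⊗ₜ[A] w))) =
          LinearMap.rTensor (G i) (φ.restrictScalars A) ((TensorProduct.assoc A (A ⧸ J) (↥(J ^ n)) (G i)).symm
            ((1 : A ⧸ J) ⊗ₜ[A] LinearMap.lTensor (↥(J ^ n)) (u i) w)) := by
        clear huw hnat hw
        induction w using TensorProduct.induction_on with
        | zero => simp
        | tmul a y => simp
        | add a b ha hb => simp only [TensorProduct.tmul_add, map_add, ha, hb]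
      rw [this, huw, TensorProduct.tmul_zero, map_zero, map_zero]
    have h1 := congrArg (TensorProduct.quotTensorEquivQuotSMul (↥(J ^ n) ⊗[A] M) J) h0
    rw [map_zero, show (1 : A ⧸ J) = Ideal.Quotient.mk J 1 from rfl,
      TensorProduct.quotTensorEquivQuotSMul_mk_tmul, one_smul, Submodule.Quotient.mk_eq_zero] at h1
    rw [← hw]
    refine Submodule.smul_induction_on h1 (fun a ha z _ => ?_) fun a b ha hb => by
      rw [map_add]; exact Submodule.add_mem _ ha hb
    rw [map_smul, pow_succ', mul_smul]
    refine Submodule.smul_mem_smul ha ?_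
    have hz : ∀ z : ↥(J ^ n) ⊗[A] M, idealMul (J ^ n) M z ∈ J ^ n • (⊤ : Submodule A M) := fun z => by
      induction z using TensorProduct.induction_on with
      | zero => simp
      | tmul b y => rw [idealMul_tmul]; exact Submodule.smul_mem_smul b.2 Submodule.mem_top
      | add a b ha hb => rw [map_add]; exact Submodule.add_mem _ ha hb
    exact hz z

/-- Separation along a nilpotent thickening with projective successive quotients. -/
theorem sep_of_nilpotent [∀ i, Module.Flat A (G i)] (J : Ideal A) (hJ : IsNilpotent J)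
    (hproj : ∀ n : ℕ, Module.Projective (A ⧸ J) ((A ⧸ J) ⊗[A] ↥(J ^ n)))
    (h : Sep fun i => (u i).baseChange (A ⧸ J)) : Sep u := by
  intro x hx
  obtain ⟨N, hN⟩ := hJ
  have := mem_pow_smul_of_sep u J hproj h hx N
  rw [hN, show (0 : Ideal A) = ⊥ from rfl, Submodule.bot_smul] at this
  simpa using this

theorem lSep_of_colimit_of_flat {k : Type u} [CommRing k] [Algebra k A] (C : Type u) [CommRing C] [Algebra k C]
    (hflat : ∀ i, letI := Module.compHom (G i) (algebraMap k A); Module.Flat k (G i))
    (H : ∀ C₀ : Subalgebra k C, C₀.FG → LSep (A := A ⊗[k] ↥C₀) (M := (A ⊗[k] ↥C₀) ⊗[A] M)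
      (G := fun i => (A ⊗[k] ↥C₀) ⊗[A] G i) fun i => (u i).baseChange (A ⊗[k] ↥C₀)) :
    LSep fun i => (u i).baseChange (A ⊗[k] C) := by
  letI : ∀ i, Module k (G i) := fun i => Module.compHom (G i) (algebraMap k A)
  haveI : ∀ i, IsScalarTower k A (G i) := fun i => IsScalarTower.of_algebraMap_smul fun _ _ => rfl
  haveI : ∀ i, Module.Flat k (G i) := hflat
  exact lSep_of_colimit u C H

/-- Transfer of separation between a tensor product and a base change. -/
theorem sep_baseChange_of_tensor {k : Type u} [CommRing k] [Algebra k A] (C : Type u) [CommRing C] [Algebra k C]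
    [Module k M] [IsScalarTower k A M] [∀ i, Module k (G i)] [∀ i, IsScalarTower k A (G i)]
    (h : Sep fun i => (u i).baseChange (A ⊗[k] C)) : Sep fun i => ((u i).restrictScalars k).baseChange C := by
  let e : ∀ (N : Type u) [AddCommGroup N] [Module A N] [Module k N] [IsScalarTower k A N],
      (A ⊗[k] C) ⊗[A] N ≃+ C ⊗[k] N := fun N _ _ _ _ =>
    ((TensorProduct.comm A (A ⊗[k] C) N).toAddEquiv.trans
      (AlgebraTensorModule.cancelBaseChange k A A N C).toAddEquiv).trans (TensorProduct.comm k N C).toAddEquiv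
  intro z hz
  obtain ⟨z, rfl⟩ := (e M).surjective z
  rw [AddEquiv.map_eq_zero_iff]
  refine h z fun i => (e (G i)).injective ?_
  have : ((u i).restrictScalars k).baseChange C (e M z) = e (G i) ((u i).baseChange (A ⊗[k] C) z) := by
    clear hz
    induction z using TensorProduct.induction_on with
    | zero => simp
    | tmul b y =>
      induction b using TensorProduct.induction_on with
      | zero => simp
      | tmul a c => simp [e]
      | add a b ha hb => simp only [TensorProduct.add_tmul, map_add, ha, hb]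
    | add a b ha hb => simp only [map_add, ha, hb]
  rw [← this, hz, map_zero]

variable {X : Scheme.{u}} {k : CommRingCat.{u}} (p : X ⟶ Spec k) {F : X.Modules} {κ : Type u} {H : κ → X.Modules}
  {v : ∀ i, F ⟶ H i} [Coh.IsQCoh F] [∀ i, Coh.IsQCoh (H i)]

/-- Separation from separation modulo a nilpotent ideal of the base. -/
theorem sepMod_of_nilpotent (hH : ∀ i, FlatMod.IsFlatOver p (H i)) (J : Ideal k) (hJ : IsNilpotent J)
    (hfree : ∀ n : ℕ, Module.Free (k ⧸ J) ((k ⧸ J) ⊗[k] ↥(J ^ n)))
    (h0 : SepMod _ _ (pbFam (u := v) (pullback.fst p (Spec.map (CommRingCat.ofHom (Ideal.Quotient.mk J)))))) :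
    SepMod F H v := by
  refine sepMod_of_nhds fun V x hx => ?_
  obtain ⟨U, hU, hxU, hle⟩ := Opens.isBasis_iff_nbhd.mp X.isBasis_affineOpens (U := V) (x := x) hx
  refine ⟨U, hle, hxU, ?_⟩
  let φ := CommRingCat.ofHom (Ideal.Quotient.mk J)
  have hL := lSep_tensor_of_sepMod φ p hU h0
  letI := baseAlg p U
  letI : Module k Γ(F, U) := Module.compHom Γ(F, U) (algebraMap k Γ(X, U))
  haveI : IsScalarTower k Γ(X, U) Γ(F, U) := IsScalarTower.of_algebraMap_smul fun _ _ => rfl
  letI : ∀ i, Module k Γ(H i, U) := fun i => Module.compHom Γ(H i, U) (algebraMap k Γ(X, U))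
  haveI : ∀ i, IsScalarTower k Γ(X, U) Γ(H i, U) := fun i => IsScalarTower.of_algebraMap_smul fun _ _ => rfl
  haveI : ∀ i, Module.Flat k Γ(H i, U) := fun i => flat_sections_base p hU (hH i)
  have hS : Sep (A := Γ(X, U) ⊗[k] (k ⧸ J)) (M := (Γ(X, U) ⊗[k] (k ⧸ J)) ⊗[Γ(X, U)] Γ(F, U))
      (G := fun i => (Γ(X, U) ⊗[k] (k ⧸ J)) ⊗[Γ(X, U)] Γ(H i, U))
      fun i => (secFam F H v U i).baseChange (Γ(X, U) ⊗[k] (k ⧸ J)) := hL.sep
  intro y hy
  exact sep_of_nilpotent (fun i => (secFam F H v U i).restrictScalars k) J hJ (fun n => inferInstance)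
    (sep_baseChange_of_tensor _ (k ⧸ J) hS) y hy

/-- Separation over an algebra from separation over its subalgebras of finite type. -/
theorem sepMod_of_subalgebras (hH : ∀ i, FlatMod.IsFlatOver p (H i)) {C : CommRingCat.{u}} (φ : k ⟶ C)
    (hfg : ∀ (B : CommRingCat.{u}) (a : k ⟶ B) (b : B ⟶ C), a ≫ b = φ → Function.Injective b.hom →
      a.hom.FiniteType → SepMod _ _ (pbFam (u := v) (pullback.fst p (Spec.map a)))) :
    SepMod _ _ (pbFam (u := v) (pullback.fst p (Spec.map φ))) := by
  refine sepMod_of_lSep_tensor φ p fun U hU => ?_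
  letI := baseAlg p U
  letI := φ.hom.toAlgebra
  refine lSep_of_colimit_of_flat _ C (fun i => flat_sections_base p hU (hH i)) fun C₀ h₀ => ?_
  exact lSep_tensor_of_sepMod (CommRingCat.ofHom (algebraMap k C₀)) p hU
    (hfg (CommRingCat.of C₀) (CommRingCat.ofHom (algebraMap k C₀)) (CommRingCat.ofHom C₀.val.toRingHom)
      (by ext r; rfl) Subtype.val_injective
      (RingHom.finiteType_algebraMap.mpr (C₀.fg_iff_finiteType.mp h₀)))

end Sep43Lib
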