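import Mathlib
import Groth.Agent.FlatLib.GenericFree
import Groth.Agent.RichLib.FlatModel
import Groth.Agent.ProjLib.ProjNil

/-!
# Separating families of linear maps and their base changes

A family `u i : M →ₗ[A] G i` is separating if no nonzero element is killed by all its members, and
locally separating if it stays so after inverting an element. We study the base change of such families along flat
algebras (finite families, projective algebras, algebras of finite presentation, extensions of fields).
-/

set_option autoImplicit false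
universe u

open TensorProduct

noncomputable section

namespace Sep43Lib

variable {A : Type u} [CommRing A] {M : Type u} [AddCommGroup M] [Module A M] {ι : Type u}
  {G : ι → Type u} [∀ i, AddCommGroup (G i)] [∀ i, Module A (G i)] (u : ∀ i, M →ₗ[A] G i)

/-- A family of maps is separating. -/
def Sep : Prop := ∀ x : M, (∀ i, u i x = 0) → x = 0

/-- A family of maps is separating on every basic open subset. -/
def LSep : Prop := ∀ (f : A) (x : M), (∀ i, ∃ n : ℕ, f ^ n • u i x = 0) → ∃ n : ℕ, f ^ n • x = 0

omit [∀ i, Module A (G i)] in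
theorem pi_tensor_eq_zero {B : Type u} [AddCommGroup B] [Module A B] {J : Type u} [Fintype J] [DecidableEq J]
    (P : J → Type u) [∀ j, AddCommGroup (P j)] [∀ j, Module A (P j)] (z : B ⊗[A] (∀ j, P j))
    (h : ∀ j, LinearMap.lTensor B (LinearMap.proj j : (∀ j, P j) →ₗ[A] P j) z = 0) : z = 0 := by
  apply (TensorProduct.piRight A A B P).injective
  rw [map_zero]
  funext j
  rw [Pi.zero_apply, ← h j]
  clear h
  induction z using TensorProduct.induction_on with
  | zero => simp
  | tmul b x => simp
  | add a b ha hb => rw [map_add, map_add, Pi.add_apply, ha, hb]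

theorem eq_zero_of_functionals {L T N : Type u} [CommRing L] [Algebra A L] [AddCommGroup T] [Module L T]
    [Module A T] [IsScalarTower A L T] [Module.Projective L T] [AddCommGroup N] [Module A N] (z : T ⊗[A] N)
    (h : ∀ φ : T →ₗ[L] L, LinearMap.rTensor N (φ.restrictScalars A) z = 0) : z = 0 := by
  classical
  obtain ⟨s, hs⟩ := Module.projective_def'.mp (inferInstance : Module.Projective L T)
  have h1 : LinearMap.rTensor N (s.restrictScalars A) z = 0 := by
    apply (TensorProduct.finsuppLeft A A L N T).injective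
    rw [map_zero]
    refine Finsupp.ext fun t => ?_
    rw [TensorProduct.finsuppLeft_apply, Finsupp.zero_apply, ← LinearMap.comp_apply, ← LinearMap.rTensor_comp]
    exact h ((Finsupp.lapply t).comp s)
  have h2 := congrArg (LinearMap.rTensor N ((Finsupp.linearCombination L (id : T → T)).restrictScalars A)) h1
  rw [map_zero, ← LinearMap.comp_apply, ← LinearMap.rTensor_comp, ← LinearMap.restrictScalars_comp, hs] at h2
  simpa using h2

section
variable (B : Type u) [CommRing B] [Algebra A B]

theorem sep_of_projective [Module.Projective A B] (h : Sep u) : Sep fun i => (u i).baseChange B := by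
  intro z hz
  refine eq_zero_of_functionals (L := A) z fun φ => ?_
  apply (TensorProduct.lid A M).injective
  rw [map_zero]
  refine h _ fun i => ?_
  have : u i (TensorProduct.lid A M (LinearMap.rTensor M (φ.restrictScalars A) z)) =
      TensorProduct.lid A (G i) (LinearMap.rTensor (G i) (φ.restrictScalars A) ((u i).baseChange B z)) := by
    clear hz
    induction z using TensorProduct.induction_on with
    | zero => simp
    | tmul b x => simp
    | add a b ha hb => simp only [map_add, ha, hb]
  rw [this, hz i, map_zero, map_zero]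

theorem sep_of_finite [Finite ι] [Module.Flat A B] (h : Sep u) : Sep fun i => (u i).baseChange B := by
  classical
  haveI := Fintype.ofFinite ι
  intro z hz
  have hinj : Function.Injective (LinearMap.pi u) :=
    (injective_iff_map_eq_zero _).mpr fun x hx => h x fun i => congrFun hx i
  apply Module.Flat.lTensor_preserves_injective_linearMap (M := B) (LinearMap.pi u) hinj
  rw [map_zero]
  refine pi_tensor_eq_zero _ _ fun i => ?_
  rw [← LinearMap.comp_apply, ← LinearMap.lTensor_comp, LinearMap.proj_pi]
  exact hz i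

/-- In a flat algebra, an element whose image vanishes has annihilator outside every prime in the image. -/
theorem exists_smul_eq_zero_of_tmul [Module.Flat A B] {x : M} (hx : (1 : B) ⊗ₜ[A] x = 0) (q : Ideal B)
    (hq : q ≠ ⊤) : ∃ a : A, a ∉ q.comap (algebraMap A B) ∧ a • x = 0 := by
  let μ : A →ₗ[A] M := LinearMap.toSpanSingleton A M x
  have hex := Module.Flat.lTensor_exact B (LinearMap.exact_subtype_ker_map μ)
  obtain ⟨w, hw⟩ := (hex ((1 : B) ⊗ₜ[A] (1 : A))).mp (by simpa [μ] using hx)
  by_contra hne
  push Not at hne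
  have key : ∀ v : B ⊗[A] ↥μ.ker, TensorProduct.rid A B (LinearMap.lTensor B μ.ker.subtype v) ∈ q := by
    intro v
    induction v using TensorProduct.induction_on with
    | zero => simp
    | tmul b a =>
      have ha : (a : A) • x = 0 := LinearMap.mem_ker.mp a.2
      have : algebraMap A B a ∈ q := by
        by_contra hn
        exact hne a hn ha
      rw [LinearMap.lTensor_tmul, TensorProduct.rid_tmul, Algebra.smul_def]
      exact q.mul_mem_right _ this
    | add a b ha hb => rw [map_add, map_add]; exact q.add_mem ha hb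
  apply hq
  rw [Ideal.eq_top_iff_one]
  simpa [hw] using key w

end

section Localisation

variable {p : Ideal A} {f : A} {N : Type u} [AddCommGroup N] [Module A N]

local notation "Lf" => Localization.Away (Ideal.Quotient.mk p f)

theorem exists_pow_of_one_tmul (hN : ∀ a ∈ p, ∀ x : N, a • x = 0) {x : N}
    (hx : (1 : Lf) ⊗ₜ[A] x = 0) : ∃ n : ℕ, f ^ n • x = 0 := by
  have h1 : (1 : Lf) ⊗ₜ[A ⧸ p] ((1 : A ⧸ p) ⊗ₜ[A] x) = 0 := by
    apply (AlgebraTensorModule.cancelBaseChange A (A ⧸ p) Lf Lf N).injective
    rw [map_zero, AlgebraTensorModule.cancelBaseChange_tmul]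
    simpa using hx
  haveI : IsLocalizedModule (Submonoid.powers (Ideal.Quotient.mk p f))
      (TensorProduct.mk (A ⧸ p) Lf ((A ⧸ p) ⊗[A] N) 1) :=
    IsLocalization.tensorProduct_isLocalizedModule _ _
  obtain ⟨⟨_, k, rfl⟩, hk⟩ := (IsLocalizedModule.eq_zero_iff (Submonoid.powers (Ideal.Quotient.mk p f))
    (TensorProduct.mk (A ⧸ p) Lf ((A ⧸ p) ⊗[A] N) 1)).mp h1
  refine ⟨k, ?_⟩
  have h2 : Ideal.Quotient.mk p (1 : A) ⊗ₜ[A] (f ^ k • x) = 0 := by
    refine Eq.trans ?_ hk
    rw [Submonoid.smul_def, TensorProduct.smul_tmul', TensorProduct.tmul_smul, TensorProduct.smul_tmul']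
    congr 1
  have h3 := congrArg (TensorProduct.quotTensorEquivQuotSMul N p) h2
  rw [map_zero, TensorProduct.quotTensorEquivQuotSMul_mk_tmul, one_smul, Submodule.Quotient.mk_eq_zero] at h3
  have h4 : p • (⊤ : Submodule A N) ≤ ⊥ :=
    Submodule.smul_le.mpr fun a ha y _ => (Submodule.mem_bot A).mpr (hN a ha y)
  simpa using h4 h3

theorem exists_pow_smul_eq_tmul (y : Lf ⊗[A] N) : ∃ (k : ℕ) (x : N), f ^ k • y = (1 : Lf) ⊗ₜ[A] x := by
  induction y using TensorProduct.induction_on with
  | zero => exact ⟨0, 0, by simp⟩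
  | tmul l x =>
    obtain ⟨⟨r, _, k, rfl⟩, hk⟩ := IsLocalization.surj (Submonoid.powers (Ideal.Quotient.mk p f)) l
    obtain ⟨a, rfl⟩ := Ideal.Quotient.mk_surjective r
    refine ⟨k, a • x, ?_⟩
    have hk' : f ^ k • l = a • (1 : Lf) := by
      rw [Algebra.smul_def, Algebra.smul_def, mul_one, mul_comm, IsScalarTower.algebraMap_apply A (A ⧸ p) Lf,
        IsScalarTower.algebraMap_apply A (A ⧸ p) Lf, Ideal.Quotient.algebraMap_eq, map_pow]
      exact hk
    rw [TensorProduct.smul_tmul', hk', TensorProduct.smul_tmul]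
  | add y₁ y₂ h₁ h₂ =>
    obtain ⟨k₁, x₁, h₁⟩ := h₁
    obtain ⟨k₂, x₂, h₂⟩ := h₂
    refine ⟨k₁ + k₂, f ^ k₂ • x₁ + f ^ k₁ • x₂, ?_⟩
    rw [TensorProduct.tmul_add, TensorProduct.tmul_smul, TensorProduct.tmul_smul, ← h₁, ← h₂, smul_add,
      smul_smul, smul_smul, ← pow_add, ← pow_add, add_comm k₂]

theorem eq_zero_of_pow_smul {n : ℕ} {y : Lf ⊗[A] N} (h : f ^ n • y = 0) : y = 0 := by
  have hu : IsUnit (algebraMap A Lf f) := by
    rw [IsScalarTower.algebraMap_apply A (A ⧸ p) Lf, Ideal.Quotient.algebraMap_eq]
    exact IsLocalization.Away.algebraMap_isUnit _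
  rw [← algebraMap_smul Lf, map_pow] at h
  exact (hu.pow n).smul_eq_zero.mp h

end Localisation

theorem exists_fg_range {S : Type u} [CommRing S] [Algebra A S] (z : S ⊗[A] M) :
    ∃ N : Submodule A M, N.FG ∧ z ∈ LinearMap.range (N.subtype.baseChange S) := by
  have mono : ∀ {N N' : Submodule A M}, N ≤ N' →
      LinearMap.range (N.subtype.baseChange S) ≤ LinearMap.range (N'.subtype.baseChange S) := fun {N N'} h => by
    rw [show N.subtype = N'.subtype.comp (Submodule.inclusion h) from rfl, LinearMap.baseChange_comp]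
    exact LinearMap.range_comp_le_range _ _
  induction z using TensorProduct.induction_on with
  | zero => exact ⟨⊥, Submodule.fg_bot, Submodule.zero_mem _⟩
  | tmul s m =>
    exact ⟨Submodule.span A {m}, Submodule.fg_span_singleton m,
      s ⊗ₜ[A] ⟨m, Submodule.mem_span_singleton_self m⟩, by simp⟩
  | add a b ha hb =>
    obtain ⟨N, hN, ha⟩ := ha
    obtain ⟨N', hN', hb⟩ := hb
    exact ⟨N ⊔ N', hN.sup hN', Submodule.add_mem _ (mono le_sup_left ha) (mono le_sup_right hb)⟩

/-- The base change of a locally separating family along a flat algebra of finite type over a Noetherian ring. -/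
theorem sep_of_noetherian [IsNoetherianRing A] {S : Type u} [CommRing S] [Algebra A S] [Algebra.FiniteType A S]
    [Module.Flat A S] (H : LSep u) : Sep fun i => (u i).baseChange S := by
  classical
  intro z hz
  by_contra hz0
  obtain ⟨N, hN, z', rfl⟩ := exists_fg_range (S := S) z
  haveI : Module.Finite A N := Module.Finite.iff_fg.mpr hN
  haveI : IsNoetherianRing S := Algebra.FiniteType.isNoetherianRing A S
  let K : Submodule S (S ⊗[A] N) := ⨅ i, LinearMap.ker ((u i).baseChange S ∘ₗ N.subtype.baseChange S)
  have hzK : z' ∈ K := by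
    rw [Submodule.mem_iInf]
    exact hz
  haveI : Nontrivial K := ⟨⟨⟨z', hzK⟩, 0, fun h => hz0 (by rw [show z' = 0 from Subtype.ext_iff.mp h]; exact map_zero _)⟩⟩
  obtain ⟨q, hq⟩ := associatedPrimes.nonempty S K
  obtain ⟨hqp, φ, hφ⟩ := (isAssociatedPrime_iff_exists_injective_linearMap (R := S) q K).mp hq
  let w : S ⊗[A] N := (φ (Ideal.Quotient.mk q 1)).1
  have hwK : ∀ i, (u i).baseChange S (N.subtype.baseChange S w) = 0 := fun i =>
    (Submodule.mem_iInf _).mp (φ (Ideal.Quotient.mk q 1)).2 i
  have hann : ∀ s : S, s • w = 0 ↔ s ∈ q := fun s => by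
    have e : s • w = (φ (Ideal.Quotient.mk q s)).1 := by
      show s • (φ (Ideal.Quotient.mk q 1)).1 = _
      rw [← Submodule.coe_smul_of_tower, ← map_smul]
      congr 2
      rw [Algebra.smul_def, Ideal.Quotient.algebraMap_eq, map_one, mul_one]
    rw [e, ← Ideal.Quotient.eq_zero_iff_mem]
    exact ⟨fun h => hφ (Subtype.ext (h.trans (by simp))), fun h => by simp [h]⟩
  let p : Ideal A := q.comap (algebraMap A S)
  haveI : p.IsPrime := Ideal.comap_isPrime _ q
  obtain ⟨T, hT⟩ := (IsNoetherian.noetherian p : p.FG)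
  let σ : N →ₗ[A] (T → N) := LinearMap.pi fun g => (g : A) • LinearMap.id
  have hσw : LinearMap.lTensor S σ w = 0 := by
    refine pi_tensor_eq_zero (fun _ : T => N) _ fun g => ?_
    rw [← LinearMap.comp_apply, ← LinearMap.lTensor_comp, LinearMap.proj_pi, LinearMap.lTensor_smul,
      LinearMap.smul_apply, LinearMap.lTensor_id, LinearMap.id_apply, ← algebraMap_smul S]
    exact (hann _).mpr (show (g : A) ∈ p from hT ▸ Submodule.subset_span g.2)
  obtain ⟨w', hw'⟩ := ((Module.Flat.lTensor_exact S (LinearMap.exact_subtype_ker_map σ)) w).mp hσw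
  let P := LinearMap.ker σ
  have hPk : ∀ a ∈ p, ∀ x : P, a • x = 0 := by
    intro a ha x
    rw [← hT] at ha
    induction ha using Submodule.span_induction with
    | mem g hg => exact Subtype.ext (congrFun (show σ x.1 = 0 from x.2) ⟨g, hg⟩)
    | zero => exact zero_smul _ _
    | add a b _ _ ha hb => rw [add_smul, ha, hb, add_zero]
    | smul r a _ ha => rw [smul_eq_mul, mul_smul, ha, smul_zero]
  let v' : ∀ i, P →ₗ[A] G i := fun i => (u i).comp (N.subtype.comp P.subtype)
  let G' : ι → Type u := fun i => Submodule.torsionBySet A (G i) (p : Set A)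
  let v : ∀ i, P →ₗ[A] Submodule.torsionBySet A (G i) (p : Set A) := fun i =>
    (v' i).codRestrict _ fun x => (Submodule.mem_torsionBySet_iff _ _).mpr fun a => by
      rw [← map_smul, hPk a a.2, map_zero]
  have hGk : ∀ i, ∀ a ∈ p, ∀ x : Submodule.torsionBySet A (G i) (p : Set A), a • x = 0 := fun i a ha x =>
    Subtype.ext ((Submodule.mem_torsionBySet_iff _ _).mp x.2 ⟨a, ha⟩)
  have hvw : ∀ i, LinearMap.lTensor S (v i) w' = 0 := fun i => by
    apply Module.Flat.lTensor_preserves_injective_linearMap (M := S)
      (Submodule.torsionBySet A (G i) (p : Set A)).subtype (Submodule.subtype_injective _)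
    rw [map_zero, ← LinearMap.comp_apply, ← LinearMap.lTensor_comp, LinearMap.subtype_comp_codRestrict]
    show LinearMap.lTensor S ((u i).comp (N.subtype.comp P.subtype)) w' = 0
    rw [LinearMap.lTensor_comp, LinearMap.comp_apply, LinearMap.lTensor_comp, LinearMap.comp_apply, hw']
    exact hwK i
  let D := A ⧸ p
  obtain ⟨fb, hfb, hfree⟩ := FlatLib.gfree_of_finite (R := D) (D ⊗[A] S) (D ⊗[A] S)
  obtain ⟨f, rfl⟩ := Ideal.Quotient.mk_surjective fb
  have hfp : f ∉ p := fun h => hfb (Ideal.Quotient.eq_zero_iff_mem.mpr h)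
  let L := Localization.Away (Ideal.Quotient.mk p f)
  haveI : Module.Free L (L ⊗[A] S) := Module.Free.of_equiv (AlgebraTensorModule.cancelBaseChange A D L L S)
  have h0 : (1 : L) ⊗ₜ[A] w' = 0 := by
    apply (TensorProduct.assoc A L S P).symm.injective
    rw [map_zero]
    refine eq_zero_of_functionals (L := L) _ fun φ => ?_
    set y := LinearMap.rTensor P (φ.restrictScalars A) ((TensorProduct.assoc A L S P).symm ((1 : L) ⊗ₜ[A] w'))
    have hvy : ∀ i, LinearMap.lTensor L (v i) y = 0 := fun i => by
      have : LinearMap.lTensor L (v i) y = LinearMap.rTensor _ (φ.restrictScalars A)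
          ((TensorProduct.assoc A L S _).symm ((1 : L) ⊗ₜ[A] LinearMap.lTensor S (v i) w')) := by
        simp only [y]
        clear hvw hw'
        induction w' using TensorProduct.induction_on with
        | zero => simp
        | tmul s x => simp
        | add a b ha hb => simp only [TensorProduct.tmul_add, map_add, ha, hb]
      rw [this, hvw i, TensorProduct.tmul_zero, map_zero, map_zero]
    obtain ⟨k, x, hx⟩ := exists_pow_smul_eq_tmul (p := p) (f := f) y
    have hux : ∀ i, ∃ n : ℕ, f ^ n • u i (x : N) = 0 := fun i => by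
      have h1 : (1 : L) ⊗ₜ[A] v i x = 0 := by
        rw [← LinearMap.lTensor_tmul, ← hx, map_smul, hvy i, smul_zero]
      obtain ⟨n, hn⟩ := exists_pow_of_one_tmul (p := p) (hGk i) h1
      exact ⟨n, congrArg Subtype.val hn⟩
    obtain ⟨n, hn⟩ := H f _ hux
    have hn' : f ^ n • x = 0 := Subtype.ext (Subtype.ext hn)
    refine eq_zero_of_pow_smul (p := p) (f := f) (n := n + k) ?_
    rw [pow_add, mul_smul, hx, ← TensorProduct.tmul_smul, hn', TensorProduct.tmul_zero]
  have hSP : ∀ a ∈ p, ∀ x : S ⊗[A] P, a • x = 0 := fun a ha x => by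
    induction x using TensorProduct.induction_on with
    | zero => exact smul_zero _
    | tmul s x => rw [← TensorProduct.tmul_smul, hPk a ha, TensorProduct.tmul_zero]
    | add x y hx hy => rw [smul_add, hx, hy, add_zero]
  obtain ⟨n, hn⟩ := exists_pow_of_one_tmul (p := p) hSP h0
  have h5 : algebraMap A S f ^ n • w = 0 := by
    rw [← map_pow, algebraMap_smul, ← hw', ← map_smul, hn, map_zero]
  exact hfp (Ideal.IsPrime.mem_of_pow_mem hqp n ((hann _).mp h5))

end Sep43Lib
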