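import Mathlib
import Groth.Agent.FlatLib.Slicing
import Groth.Agent.FlatLib.FlatMisc

/-!
# Density of the complement of a closed subset and fibres

An ideal `I` of a flat algebra of finite presentation which has no annihilator on every fibre keeps
this property after every base change.
-/

set_option autoImplicit false
universe u

open TensorProduct

noncomputable section

namespace Sep43Lib

variable {R B : Type u} [CommRing R] [CommRing B] [Algebra R B]

/-- An element of `I` regular on the fibre, from the vanishing of the `I`-torsion of the fibre. -/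
theorem exists_mem_regular_fibre [Algebra.FiniteType R B] (p : Ideal R) [p.IsPrime] (I : Ideal B)
    (h : ∀ y : B ⊗[R] p.ResidueField,
      (∀ a ∈ I, ∃ n : ℕ, (a ⊗ₜ[R] (1 : p.ResidueField)) ^ n * y = 0) → y = 0) :
    ∃ a ∈ I, ∀ y : B ⊗[R] p.ResidueField, (a ⊗ₜ[R] (1 : p.ResidueField)) * y = 0 → y = 0 := by
  classical
  set F := B ⊗[R] p.ResidueField
  let e : F ≃+* p.ResidueField ⊗[R] B := (Algebra.TensorProduct.comm R B p.ResidueField).toRingEquiv
  haveI : IsNoetherianRing (p.ResidueField ⊗[R] B) :=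
    Algebra.FiniteType.isNoetherianRing p.ResidueField (p.ResidueField ⊗[R] B)
  haveI : IsNoetherianRing F := isNoetherianRing_of_ringEquiv (p.ResidueField ⊗[R] B) e.symm
  let T := (associatedPrimes.finite F F).toFinset
  let ι := (Algebra.TensorProduct.includeLeftRingHom : B →+* F)
  have hne : ¬ ((I : Set B) ⊆ ⋃ P ∈ (↑T : Set (Ideal F)), (Ideal.comap ι P : Set B)) := by
    rw [Ideal.subset_union_prime (⊤ : Ideal F) ⊤ fun P hP _ _ => by
      haveI := ((associatedPrimes.finite F F).mem_toFinset.mp hP).isPrime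
      exact Ideal.comap_isPrime ι P]
    rintro ⟨P, hP, hIP⟩
    have hP' := (associatedPrimes.finite F F).mem_toFinset.mp hP
    obtain ⟨hPp, φ, hφ⟩ := (isAssociatedPrime_iff_exists_injective_linearMap (R := F) P F).mp hP'
    have h0 : φ (Ideal.Quotient.mk P 1) = 0 := h _ fun a ha => ⟨1, by
      rw [pow_one, ← smul_eq_mul, ← map_smul]
      refine (congrArg φ ?_).trans (map_zero φ)
      show Ideal.Quotient.mk P ((a ⊗ₜ[R] (1 : p.ResidueField)) * 1) = 0
      rw [mul_one, Ideal.Quotient.eq_zero_iff_mem]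
      exact hIP ha⟩
    have h1 : Ideal.Quotient.mk P (1 : F) = 0 := hφ (h0.trans (map_zero φ).symm)
    exact hPp.ne_top ((Ideal.eq_top_iff_one _).mpr (Ideal.Quotient.eq_zero_iff_mem.mp h1))
  obtain ⟨a, ha, ha'⟩ := Set.not_subset.mp hne
  refine ⟨a, ha, fun y hy => ?_⟩
  by_contra hy0
  have hm : ι a ∈ {r : F | ∃ x : F, x ≠ 0 ∧ r • x = 0} := ⟨y, hy0, hy⟩
  rw [← biUnion_associatedPrimes_eq_zero_divisors] at hm
  obtain ⟨P, hP, haP⟩ := Set.mem_iUnion₂.mp hm
  exact ha' (Set.mem_iUnion₂.mpr ⟨P, (associatedPrimes.finite F F).mem_toFinset.mpr hP, haP⟩)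

theorem exists_smul_mem_map_of_tmul (p : Ideal R) [p.IsPrime] {b : B}
    (hb : b ⊗ₜ[R] (1 : p.ResidueField) = 0) : ∃ s ∉ p, s • b ∈ p.map (algebraMap R B) := by
  have h1 : (1 : p.ResidueField) ⊗ₜ[R ⧸ p] ((1 : R ⧸ p) ⊗ₜ[R] b) = 0 := by
    apply (AlgebraTensorModule.cancelBaseChange R (R ⧸ p) p.ResidueField p.ResidueField B).injective
    rw [map_zero, AlgebraTensorModule.cancelBaseChange_tmul]
    refine (TensorProduct.comm R B p.ResidueField).symm.injective ?_
    simpa using hb
  haveI : IsLocalizedModule (nonZeroDivisors (R ⧸ p))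
      (TensorProduct.mk (R ⧸ p) p.ResidueField ((R ⧸ p) ⊗[R] B) 1) :=
    IsLocalization.tensorProduct_isLocalizedModule _ _
  obtain ⟨⟨c, hc⟩, hk⟩ := (IsLocalizedModule.eq_zero_iff (nonZeroDivisors (R ⧸ p))
    (TensorProduct.mk (R ⧸ p) p.ResidueField ((R ⧸ p) ⊗[R] B) 1)).mp h1
  obtain ⟨s, rfl⟩ := Ideal.Quotient.mk_surjective c
  refine ⟨s, fun hs => nonZeroDivisors.ne_zero hc (Ideal.Quotient.eq_zero_iff_mem.mpr hs), ?_⟩
  have h2 : Ideal.Quotient.mk p (1 : R) ⊗ₜ[R] (s • b) = 0 := by
    refine Eq.trans ?_ hk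
    rw [Submonoid.smul_def, TensorProduct.smul_tmul', TensorProduct.tmul_smul, TensorProduct.smul_tmul']
    congr 1
  have h3 := congrArg (TensorProduct.quotTensorEquivQuotSMul B p) h2
  rw [map_zero, TensorProduct.quotTensorEquivQuotSMul_mk_tmul, one_smul, Submodule.Quotient.mk_eq_zero,
    Ideal.smul_top_eq_map] at h3
  exact h3

variable {C : Type u} [CommRing C] [Algebra R C]


/-- Fibrewise density can be tested after extending the residue field. -/
theorem dense_residueField_of_field (p : Ideal R) [p.IsPrime] (I : Ideal B) (K : Type u) [Field K] [Algebra R K]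
    (hK : RingHom.ker (algebraMap R K) = p)
    (h : ∀ y : B ⊗[R] K, (∀ a ∈ I, ∃ n : ℕ, (a ⊗ₜ[R] (1 : K)) ^ n * y = 0) → y = 0)
    (y : B ⊗[R] p.ResidueField) (hy : ∀ a ∈ I, ∃ n : ℕ, (a ⊗ₜ[R] (1 : p.ResidueField)) ^ n * y = 0) : y = 0 := by
  have hle : p ≤ RingHom.ker (algebraMap R K) := hK.ge
  have hunit : p.primeCompl ≤ (IsUnit.submonoid K).comap (algebraMap R K) := fun r hr => by
    show IsUnit (algebraMap R K r)
    exact isUnit_iff_ne_zero.mpr fun h0 => hr (hK ▸ (RingHom.mem_ker.mpr h0))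
  let φ : p.ResidueField →ₐ[R] K := Ideal.ResidueField.liftₐ p (Algebra.ofId R K) hle hunit
  letI : Algebra p.ResidueField K := φ.toRingHom.toAlgebra
  haveI : IsScalarTower R p.ResidueField K := IsScalarTower.of_algebraMap_eq fun r => (φ.commutes r).symm
  let ψ : B ⊗[R] p.ResidueField →ₐ[R] B ⊗[R] K := Algebra.TensorProduct.map (AlgHom.id R B) φ
  have hψ : Function.Injective ψ := by
    intro y y' hyy
    have hd : ∀ y, TensorProduct.comm R B K (ψ y) =
        AlgebraTensorModule.cancelBaseChange R p.ResidueField K K B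
          ((1 : K) ⊗ₜ[p.ResidueField] TensorProduct.comm R B p.ResidueField y) := fun y => by
      induction y using TensorProduct.induction_on with
      | zero => simp
      | tmul b c => simp [ψ, Algebra.smul_def]; rfl
      | add a b ha hb => simp only [map_add, TensorProduct.tmul_add, ha, hb]
    have := congrArg (TensorProduct.comm R B K) hyy
    rw [hd, hd] at this
    have h2 := Module.FaithfullyFlat.tensorProduct_mk_injective (A := p.ResidueField) (B := K) _
      ((AlgebraTensorModule.cancelBaseChange R p.ResidueField K K B).injective this)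
    exact (TensorProduct.comm R B p.ResidueField).injective h2
  refine hψ ((h _ fun a ha => ?_).trans (map_zero ψ).symm)
  obtain ⟨n, hn⟩ := hy a ha
  refine ⟨n, ?_⟩
  have := congrArg ψ hn
  rw [map_mul, map_pow, map_zero, show ψ (a ⊗ₜ[R] 1) = a ⊗ₜ[R] (1 : K) by simp [ψ]] at this
  exact this

/-- Torsion with respect to a fibrewise dense ideal vanishes after every base change. -/
theorem eq_zero_of_fibrewise_dense [Algebra.FinitePresentation R B] [Module.Flat R B] (I : Ideal B)
    (hfib : ∀ (p : Ideal R) [p.IsPrime] (y : B ⊗[R] p.ResidueField),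
      (∀ a ∈ I, ∃ n : ℕ, (a ⊗ₜ[R] (1 : p.ResidueField)) ^ n * y = 0) → y = 0)
    (g z : B ⊗[R] C) (hz : ∀ a ∈ I, ∃ n : ℕ, g ^ n * ((a ⊗ₜ[R] (1 : C)) ^ n * z) = 0) :
    ∃ n : ℕ, g ^ n * z = 0 := by
  classical
  let J : Ideal (B ⊗[R] C) :=
    { carrier := {b | ∃ m : ℕ, g ^ m * (b * z) = 0}
      add_mem' := fun {b c} ⟨m, hm⟩ ⟨m', hm'⟩ => ⟨m + m', by
        linear_combination g ^ m' * hm + g ^ m * hm'⟩
      zero_mem' := ⟨0, by ring⟩
      smul_mem' := fun r b ⟨m, hm⟩ => ⟨m, by
        rw [smul_eq_mul]; linear_combination r * hm⟩ }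
  suffices hJ : ¬ Disjoint (J : Set (B ⊗[R] C)) (Submonoid.powers g : Set (B ⊗[R] C)) by
    obtain ⟨_, ⟨m, hm⟩, k, rfl⟩ := Set.not_disjoint_iff.mp hJ
    exact ⟨m + k, by rw [pow_add, mul_assoc]; exact hm⟩
  intro hdis
  obtain ⟨Q, hQ, hJQ, hQdis⟩ := Ideal.exists_le_prime_disjoint J _ hdis
  let q : Ideal B := Q.comap (algebraMap B (B ⊗[R] C))
  haveI : q.IsPrime := Ideal.comap_isPrime _ Q
  haveI : (q.comap (algebraMap R B)).IsPrime := Ideal.comap_isPrime _ q
  obtain ⟨a, ha, hreg⟩ := exists_mem_regular_fibre (q.comap (algebraMap R B)) I (hfib _)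
  obtain ⟨n, hn⟩ := hz a ha
  by_cases haq : a ∈ q
  swap
  · exact haq (Ideal.IsPrime.mem_of_pow_mem (I := Q) inferInstance n
      (hJQ ⟨n, hn⟩ : (a ⊗ₜ[R] (1 : C)) ^ n ∈ Q))
  have hflatq : (⟨q, inferInstance⟩ : PrimeSpectrum B) ∈ FlatLib.flatLocus R B B := by
    show Module.Flat R (LocalizedModule q.primeCompl B)
    exact Module.Flat.trans R B (LocalizedModule q.primeCompl B)
  obtain ⟨U, -, hqU, hU⟩ := FlatLib.slice_point (R := R) (B := B) (M := B) ⟨q, inferInstance⟩ a haq hflatq
    fun m ⟨t, ht, htm⟩ => by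
      simp only [Ideal.smul_top_eq_map, Algebra.algebraMap_self, Ideal.map_id, Submodule.restrictScalars_self,
        smul_eq_mul, Ideal.mul_top] at htm
      have h1 : (t * (a * m)) ⊗ₜ[R] (1 : (q.comap (algebraMap R B)).ResidueField) = 0 := by
        have : ∀ x ∈ (q.comap (algebraMap R B)).map (algebraMap R B),
            x ⊗ₜ[R] (1 : (q.comap (algebraMap R B)).ResidueField) = 0 := fun x hx => by
          induction hx using Submodule.span_induction with
          | mem x hx =>
            obtain ⟨r, hr, rfl⟩ := hx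
            rw [Algebra.algebraMap_eq_smul_one, TensorProduct.smul_tmul, Algebra.smul_def, mul_one,
              Ideal.algebraMap_residueField_eq_zero.mpr hr, TensorProduct.tmul_zero]
          | zero => exact TensorProduct.zero_tmul _ _
          | add x y _ _ hx hy => rw [TensorProduct.add_tmul, hx, hy, add_zero]
          | smul b x _ hx => rw [← TensorProduct.smul_tmul', hx, smul_zero]
        exact this _ htm
      have h2 : (t * m) ⊗ₜ[R] (1 : (q.comap (algebraMap R B)).ResidueField) = 0 := by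
        refine hreg _ ?_
        rw [Algebra.TensorProduct.tmul_mul_tmul, one_mul, ← h1, mul_left_comm]
      obtain ⟨s, hs, hsm⟩ := exists_smul_mem_map_of_tmul _ h2
      refine ⟨algebraMap R B s * t, fun h => (Ideal.IsPrime.mem_or_mem inferInstance h).elim hs ht, ?_⟩
      simp only [Ideal.smul_top_eq_map, Algebra.algebraMap_self, Ideal.map_id, Submodule.restrictScalars_self,
        smul_eq_mul, mul_assoc, Ideal.mul_top]
      rwa [Algebra.smul_def] at hsm
  obtain ⟨hreg', hflatcoker⟩ := hU _ hqU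
  let Bq := LocalizedModule q.primeCompl B
  let μ : Bq →ₗ[R] Bq := (LinearMap.lsmul B Bq a).restrictScalars R
  let mk' := LocalizedModule.mkLinearMap q.primeCompl B
  have hμ : Function.Injective μ := (injective_iff_map_eq_zero μ).mpr fun x hx => by
    obtain ⟨⟨m, s⟩, hms⟩ := IsLocalizedModule.surj q.primeCompl mk' x
    change a • x = 0 at hx
    change s.1 • x = mk' m at hms
    have h1 : mk' (a • m) = 0 := by rw [map_smul, ← hms, smul_comm, hx, smul_zero]
    obtain ⟨t, ht⟩ := (IsLocalizedModule.eq_zero_iff q.primeCompl mk').mp h1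
    change t.1 • a • m = 0 at ht
    rw [smul_comm] at ht
    obtain ⟨t', ht', htm⟩ := hreg' _ ht
    have h2 : (t' * t.1 * s.1) • x = 0 := by
      rw [mul_smul, hms, ← map_smul, mul_smul, htm, map_zero]
    exact ((Module.End.isUnit_iff _).mp (IsLocalizedModule.map_units mk' (⟨t', ht'⟩ * t * s))).1
      (h2.trans (map_zero (algebraMap B (Module.End B Bq) (⟨t', ht'⟩ * t * s : q.primeCompl))).symm)
  obtain ⟨π, hπ, hex, hP⟩ : ∃ (π : Bq →ₗ[R] Bq ⧸ (Ideal.span {a} • (⊤ : Submodule B Bq))),
      Function.Surjective π ∧ Function.Exact μ π ∧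
        Module.Flat R (Bq ⧸ (Ideal.span {a} • (⊤ : Submodule B Bq))) := by
    refine ⟨(Submodule.mkQ _).restrictScalars R, Submodule.mkQ_surjective _, fun x => ?_, ?_⟩
    · show Submodule.Quotient.mk x = 0 ↔ x ∈ Set.range fun y => a • y
      rw [Submodule.Quotient.mk_eq_zero, Submodule.ideal_span_singleton_smul, Submodule.mem_smul_pointwise_iff_exists]
      exact ⟨fun ⟨y, _, h⟩ => ⟨y, h⟩, fun ⟨y, h⟩ => ⟨y, trivial, h⟩⟩
    · obtain ⟨φ, hφ⟩ := FlatLib.isLocalizedModule_quotient_span (B := B) (M := B) q a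
      haveI := hφ
      haveI : Module.Flat R (LocalizedModule q.primeCompl (B ⧸ (Ideal.span {a} • (⊤ : Submodule B B)))) := hflatcoker
      exact Module.Flat.of_linearEquiv ((IsLocalizedModule.iso q.primeCompl φ).restrictScalars R).symm
  haveI := hP
  have hinj := FlatLib.lTensor_injective_of_flat_coker μ π hμ hex hπ C
  let L : B ⊗[R] C →ₗ[B] Bq ⊗[R] C := AlgebraTensorModule.map mk' LinearMap.id
  have key : ∀ (k : ℕ) (w : B ⊗[R] C), L ((a ⊗ₜ[R] (1 : C)) ^ k * w) = 0 → L w = 0 := by
    intro k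
    induction k with
    | zero => intro w hw; rwa [pow_zero, one_mul] at hw
    | succ k ih =>
      intro w hw
      refine ih w (hinj ?_)
      rw [map_zero, ← hw, pow_succ', mul_assoc]
      generalize (a ⊗ₜ[R] (1 : C)) ^ k * w = v
      induction v using TensorProduct.induction_on with
      | zero => simp
      | tmul b c =>
        show (a • mk' b) ⊗ₜ[R] c = L (a ⊗ₜ[R] 1 * b ⊗ₜ[R] c)
        rw [Algebra.TensorProduct.tmul_mul_tmul, one_mul, ← smul_eq_mul a b, ← map_smul]
        rfl
      | add x y hx hy => simp only [mul_add, map_add, hx, hy]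
  have hLz : L (g ^ n * z) = 0 := key n _ (by rw [mul_left_comm, hn, map_zero])
  let Lq := Localization.AtPrime q
  haveI : IsLocalizedModule q.primeCompl (TensorProduct.mk B Lq (B ⊗[R] C) 1) :=
    IsLocalization.tensorProduct_isLocalizedModule q.primeCompl Lq
  let e := IsLocalizedModule.iso q.primeCompl (Algebra.linearMap B Lq)
  have h0 : TensorProduct.mk B Lq (B ⊗[R] C) 1 (g ^ n * z) = 0 := by
    apply (AlgebraTensorModule.cancelBaseChange R B B Lq C).injective
    rw [map_zero, ← (AlgebraTensorModule.map e.toLinearMap (LinearMap.id : C →ₗ[R] C)).map_zero, ← hLz]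
    clear hLz
    generalize g ^ n * z = w
    induction w using TensorProduct.induction_on with
    | zero => simp
    | tmul b c =>
      have he : e (mk' b) = algebraMap B Lq b := by simp [e, mk', LocalizedModule.mkLinearMap_apply]
      simp [L, he, Algebra.smul_def]
    | add x y hx hy => simp only [map_add, hx, hy]
  obtain ⟨s, hs⟩ := (IsLocalizedModule.eq_zero_iff q.primeCompl _).mp h0
  have hs' : algebraMap B (B ⊗[R] C) s * (g ^ n * z) = 0 := by
    rw [← Algebra.smul_def]; exact hs
  exact s.2 (hJQ ⟨n, by rwa [mul_left_comm]⟩)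

end Sep43Lib
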