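import Groth.Agent.Sep43Lib.Alg

/-!
# Base change of locally separating families along flat algebras of finite presentation
-/

set_option autoImplicit false
universe u

open TensorProduct

noncomputable section

namespace Sep43Lib

section Trans

variable {A₁ A B₁ B : Type u} [CommRing A₁] [CommRing A] [CommRing B₁] [CommRing B] [Algebra A₁ A]
  [Algebra A₁ B₁] [Algebra A B] (e : A ⊗[A₁] B₁ ≃ₗ[A] B)
  (N : Type u) [AddCommGroup N] [Module A N] [Module A₁ N] [IsScalarTower A₁ A N]

/-- `B₁ ⊗_{A₁} N = B ⊗_A N` when `B = A ⊗_{A₁} B₁`. -/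
def transEquiv : B₁ ⊗[A₁] N ≃+ B ⊗[A] N :=
  (TensorProduct.comm A₁ B₁ N).toAddEquiv.trans
    (((AlgebraTensorModule.cancelBaseChange A₁ A A N B₁).symm.toAddEquiv).trans
      (((TensorProduct.congr (LinearEquiv.refl A N) e).toAddEquiv).trans (TensorProduct.comm A N B).toAddEquiv))

theorem transEquiv_tmul (b : B₁) (n : N) : transEquiv e N (b ⊗ₜ[A₁] n) = e (1 ⊗ₜ[A₁] b) ⊗ₜ[A] n := by
  simp [transEquiv]

theorem transEquiv_natural {N' : Type u} [AddCommGroup N'] [Module A N'] [Module A₁ N'] [IsScalarTower A₁ A N']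
    (φ : N →ₗ[A] N') (z : B₁ ⊗[A₁] N) :
    φ.baseChange B (transEquiv e N z) = transEquiv e N' ((φ.restrictScalars A₁).baseChange B₁ z) := by
  induction z using TensorProduct.induction_on with
  | zero => simp
  | tmul b n => simp [transEquiv_tmul]
  | add a b ha hb => simp only [map_add, ha, hb]

end Trans

variable {A : Type u} [CommRing A] {M : Type u} [AddCommGroup M] [Module A M] {ι : Type u}
  {G : ι → Type u} [∀ i, AddCommGroup (G i)] [∀ i, Module A (G i)] (u : ∀ i, M →ₗ[A] G i)

/-- The base change of a locally separating family along a flat algebra of finite presentation is separating. -/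
theorem sep_of_fp (B : Type u) [CommRing B] [Algebra A B] [Algebra.FinitePresentation A B] [Module.Flat A B]
    (H : LSep u) : Sep fun i => (u i).baseChange B := by
  obtain ⟨A₁, B₁, _, _, _, _, _, _, _, ⟨e⟩⟩ := RichLib.FlatModel.exists_flat_model A B
  haveI : IsNoetherianRing A₁ := Algebra.FiniteType.isNoetherianRing ℤ A₁
  letI : Module A₁ M := Module.compHom M (algebraMap A₁ A)
  letI : ∀ i, Module A₁ (G i) := fun i => Module.compHom (G i) (algebraMap A₁ A)
  haveI : IsScalarTower A₁ A M := IsScalarTower.of_algebraMap_smul fun _ _ => rfl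
  haveI : ∀ i, IsScalarTower A₁ A (G i) := fun i => IsScalarTower.of_algebraMap_smul fun _ _ => rfl
  have H₁ : LSep fun i => (u i).restrictScalars A₁ := by
    intro f x hx
    obtain ⟨n, hn⟩ := H (algebraMap A₁ A f) x fun i => by
      obtain ⟨m, hm⟩ := hx i
      exact ⟨m, by rw [← map_pow, algebraMap_smul]; exact hm⟩
    exact ⟨n, by rwa [← map_pow, algebraMap_smul] at hn⟩
  intro z hz
  obtain ⟨z, rfl⟩ := (transEquiv e.toLinearEquiv M).surjective z
  rw [AddEquiv.map_eq_zero_iff]
  refine sep_of_noetherian _ H₁ z fun i => ?_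
  rw [← (transEquiv e.toLinearEquiv (G i)).map_eq_zero_iff, ← transEquiv_natural]
  exact hz i

theorem exists_pow_smul_of_tmul_one {B : Type u} [CommRing B] {N : Type u} [AddCommGroup N] [Module B N]
    (f : B) {x : N} (hx : (1 : Localization.Away f) ⊗ₜ[B] x = 0) : ∃ n : ℕ, f ^ n • x = 0 := by
  haveI : IsLocalizedModule (Submonoid.powers f) (TensorProduct.mk B (Localization.Away f) N 1) :=
    IsLocalization.tensorProduct_isLocalizedModule _ _
  obtain ⟨⟨_, k, rfl⟩, hk⟩ :=
    (IsLocalizedModule.eq_zero_iff (Submonoid.powers f) (TensorProduct.mk B (Localization.Away f) N 1)).mp hx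
  exact ⟨k, hk⟩

/-- The base change of a locally separating family along a flat algebra of finite presentation is locally
separating. -/
theorem lSep_of_fp (B : Type u) [CommRing B] [Algebra A B] [Algebra.FinitePresentation A B] [Module.Flat A B]
    (H : LSep u) : LSep fun i => (u i).baseChange B := by
  intro f z hz
  let B' := Localization.Away f
  haveI : Algebra.FinitePresentation B B' := IsLocalization.Away.finitePresentation f
  haveI : Algebra.FinitePresentation A B' := Algebra.FinitePresentation.trans A B B'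
  haveI : Module.Flat B B' := IsLocalization.flat B' (Submonoid.powers f)
  haveI : Module.Flat A B' := Module.Flat.trans A B B'
  have hu : IsUnit (algebraMap B B' f) := IsLocalization.Away.algebraMap_isUnit f
  refine exists_pow_smul_of_tmul_one f ?_
  apply (AlgebraTensorModule.cancelBaseChange A B B' B' M).injective
  rw [map_zero]
  refine sep_of_fp u B' H _ fun i => ?_
  obtain ⟨n, hn⟩ := hz i
  have key : (u i).baseChange B' (AlgebraTensorModule.cancelBaseChange A B B' B' M ((1 : B') ⊗ₜ[B] z)) =
      AlgebraTensorModule.cancelBaseChange A B B' B' (G i) ((1 : B') ⊗ₜ[B] (u i).baseChange B z) := by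
    clear hn hz
    induction z using TensorProduct.induction_on with
    | zero => simp
    | tmul b x => simp
    | add a b ha hb => simp only [TensorProduct.tmul_add, map_add, ha, hb]
  show (u i).baseChange B' _ = 0
  rw [key, LinearEquiv.map_eq_zero_iff]
  have h1 : algebraMap B B' (f ^ n) • ((1 : B') ⊗ₜ[B] (u i).baseChange B z) = 0 := by
    rw [algebraMap_smul, ← TensorProduct.tmul_smul, hn, TensorProduct.tmul_zero]
  rw [map_pow] at h1
  exact (hu.pow n).smul_eq_zero.mp h1

theorem exists_fg_range_algHom {k C : Type u} [CommRing k] [CommRing C] [Algebra k C] [Algebra k A]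
    (b : A ⊗[k] C) : ∃ C₀ : Subalgebra k C, C₀.FG ∧
      b ∈ (Algebra.TensorProduct.map (AlgHom.id A A) C₀.val).range := by
  have mono : ∀ {C₀ C₁ : Subalgebra k C}, C₀ ≤ C₁ →
      (Algebra.TensorProduct.map (AlgHom.id A A) C₀.val).range ≤
        (Algebra.TensorProduct.map (AlgHom.id A A) C₁.val).range := fun {C₀ C₁} h => by
    rintro _ ⟨y, rfl⟩
    refine ⟨Algebra.TensorProduct.map (AlgHom.id A A) (Subalgebra.inclusion h) y, ?_⟩
    induction y using TensorProduct.induction_on with
    | zero => simp
    | tmul a c => simp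
    | add a b ha hb => simp only [map_add]; exact congrArg₂ (· + ·) ha hb
  induction b using TensorProduct.induction_on with
  | zero => exact ⟨⊥, Subalgebra.fg_bot, Subalgebra.zero_mem _⟩
  | tmul a c =>
    exact ⟨Algebra.adjoin k {c}, Subalgebra.fg_def.mpr ⟨{c}, Set.finite_singleton c, rfl⟩,
      a ⊗ₜ[k] ⟨c, Algebra.subset_adjoin rfl⟩, by simp⟩
  | add a b ha hb =>
    obtain ⟨C₀, h₀, ha⟩ := ha
    obtain ⟨C₁, h₁, hb⟩ := hb
    exact ⟨C₀ ⊔ C₁, h₀.sup h₁, Subalgebra.add_mem _ (mono le_sup_left ha) (mono le_sup_right hb)⟩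

/-- The base change of a locally separating family along a filtered union of algebras, for targets flat over the base. -/
theorem lSep_of_colimit {k : Type u} [CommRing k] [Algebra k A] (C : Type u) [CommRing C] [Algebra k C]
    [∀ i, Module k (G i)] [∀ i, IsScalarTower k A (G i)] [∀ i, Module.Flat k (G i)]
    (H : ∀ C₀ : Subalgebra k C, C₀.FG → LSep (A := A ⊗[k] ↥C₀) (M := (A ⊗[k] ↥C₀) ⊗[A] M)
      (G := fun i => (A ⊗[k] ↥C₀) ⊗[A] G i) fun i => (u i).baseChange (A ⊗[k] ↥C₀)) : LSep fun i => (u i).baseChange (A ⊗[k] C) := by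
  let j : ∀ C₀ : Subalgebra k C, (A ⊗[k] ↥C₀) →ₐ[A] (A ⊗[k] C) := fun C₀ =>
    Algebra.TensorProduct.map (AlgHom.id A A) C₀.val
  have hex : ∀ z : (A ⊗[k] C) ⊗[A] M, ∃ C₀ : Subalgebra k C, C₀.FG ∧
      z ∈ LinearMap.range (LinearMap.rTensor M (j C₀).toLinearMap) := by
    have mono : ∀ {C₀ C₁ : Subalgebra k C}, C₀ ≤ C₁ → LinearMap.range (LinearMap.rTensor M (j C₀).toLinearMap) ≤
        LinearMap.range (LinearMap.rTensor M (j C₁).toLinearMap) := fun {C₀ C₁} h => by
      have e : (j C₀).toLinearMap =
          (j C₁).toLinearMap ∘ₗ (Algebra.TensorProduct.map (AlgHom.id A A) (Subalgebra.inclusion h)).toLinearMap := by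
        refine LinearMap.ext fun y => ?_
        induction y using TensorProduct.induction_on with
        | zero => simp
        | tmul a c => simp [j]
        | add a b ha hb => simp only [map_add, ha, hb]
      rw [e, LinearMap.rTensor_comp]
      exact LinearMap.range_comp_le_range _ _
    intro z
    induction z using TensorProduct.induction_on with
    | zero => exact ⟨⊥, Subalgebra.fg_bot, Submodule.zero_mem _⟩
    | tmul b x =>
      obtain ⟨C₀, h₀, y, rfl⟩ := exists_fg_range_algHom b
      exact ⟨C₀, h₀, y ⊗ₜ[A] x, by rw [LinearMap.rTensor_tmul]; rfl⟩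
    | add a b ha hb =>
      obtain ⟨C₀, h₀, ha⟩ := ha
      obtain ⟨C₁, h₁, hb⟩ := hb
      exact ⟨C₀ ⊔ C₁, h₀.sup h₁, Submodule.add_mem _ (mono le_sup_left ha) (mono le_sup_right hb)⟩
  intro f z hz
  obtain ⟨Cz, hCz, z₀, hz₀⟩ := hex z
  obtain ⟨Cf, hCf, f₀, hf₀⟩ := exists_fg_range_algHom f
  let C₀ := Cz ⊔ Cf
  let iz := Algebra.TensorProduct.map (AlgHom.id A A) (Subalgebra.inclusion (le_sup_left : Cz ≤ C₀))
  let jf := Algebra.TensorProduct.map (AlgHom.id A A) (Subalgebra.inclusion (le_sup_right : Cf ≤ C₀))
  have hjz : ∀ y, j C₀ (iz y) = j Cz y := fun y => by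
    induction y using TensorProduct.induction_on with
    | zero => simp
    | tmul a c => simp [j, iz]
    | add a b ha hb => simp only [map_add, ha, hb]
  have hjf : ∀ y, j C₀ (jf y) = j Cf y := fun y => by
    induction y using TensorProduct.induction_on with
    | zero => simp
    | tmul a c => simp [j, jf]
    | add a b ha hb => simp only [map_add, ha, hb]
  let J := fun (N : Type u) [AddCommGroup N] [Module A N] => LinearMap.rTensor N (j C₀).toLinearMap
  let z₁ := LinearMap.rTensor M iz.toLinearMap z₀
  let f₁ := jf f₀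
  have hf : j C₀ f₁ = f := (hjf f₀).trans hf₀
  have hz₁ : J M z₁ = z := by
    rw [← hz₀]
    show LinearMap.rTensor M (j C₀).toLinearMap (LinearMap.rTensor M iz.toLinearMap z₀) = _
    rw [← LinearMap.comp_apply, ← LinearMap.rTensor_comp]
    congr 2
    exact LinearMap.ext hjz
  have hsmul : ∀ (N : Type u) [AddCommGroup N] [Module A N] (b : A ⊗[k] ↥C₀) (y : (A ⊗[k] ↥C₀) ⊗[A] N),
      J N (b • y) = j C₀ b • J N y := fun N _ _ b y => by
    induction y using TensorProduct.induction_on with
    | zero => simp
    | tmul c x => simp [J, TensorProduct.smul_tmul']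
    | add a c ha hc => simp only [smul_add, map_add, ha, hc]
  have hJinj : ∀ i, Function.Injective (J (G i)) := fun i => by
    let e₀ := (TensorProduct.comm A (A ⊗[k] ↥C₀) (G i)).trans
      (AlgebraTensorModule.cancelBaseChange k A A (G i) ↥C₀)
    let e₁ := (TensorProduct.comm A (A ⊗[k] C) (G i)).trans (AlgebraTensorModule.cancelBaseChange k A A (G i) C)
    have key : ∀ y, e₁ (J (G i) y) = LinearMap.lTensor (G i) C₀.val.toLinearMap (e₀ y) := fun y => by
      induction y using TensorProduct.induction_on with
      | zero => simp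
      | tmul b x =>
        induction b using TensorProduct.induction_on with
        | zero => simp
        | tmul a c => simp [J, j, e₀, e₁]
        | add a b ha hb => simp only [TensorProduct.add_tmul, map_add, ha, hb]
      | add a b ha hb => simp only [map_add, ha, hb]
    intro y y' h
    apply e₀.injective
    apply Module.Flat.lTensor_preserves_injective_linearMap (M := G i) C₀.val.toLinearMap Subtype.val_injective
    rw [← key, ← key, h]
  have hnat : ∀ i (y : (A ⊗[k] ↥C₀) ⊗[A] M),
      J (G i) ((u i).baseChange (A ⊗[k] ↥C₀) y) = (u i).baseChange (A ⊗[k] C) (J M y) := fun i y => by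
    induction y using TensorProduct.induction_on with
    | zero => simp
    | tmul c x => simp [J]
    | add a b ha hb => simp only [map_add, ha, hb]
  obtain ⟨n, hn⟩ := H C₀ (hCz.sup hCf) f₁ z₁ fun i => by
    obtain ⟨m, hm⟩ := hz i
    refine ⟨m, hJinj i ?_⟩
    rw [hsmul, hnat, map_pow, hf, hz₁, map_zero]
    exact hm
  exact ⟨n, by rw [← hf, ← hz₁, ← map_pow, ← hsmul, hn, map_zero]⟩

/-- The base change of a locally separating family along an extension of scalars from a field. -/
theorem lSep_of_field {k : Type u} [Field k] [Algebra k A] (C : Type u) [CommRing C] [Algebra k C]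
    (H : LSep u) : LSep fun i => (u i).baseChange (A ⊗[k] C) := by
  letI : ∀ i, Module k (G i) := fun i => Module.compHom (G i) (algebraMap k A)
  haveI : ∀ i, IsScalarTower k A (G i) := fun i => IsScalarTower.of_algebraMap_smul fun _ _ => rfl
  refine lSep_of_colimit u C fun C₀ h₀ => ?_
  haveI : Algebra.FiniteType k C₀ := C₀.fg_iff_finiteType.mp h₀
  haveI : Algebra.FinitePresentation k C₀ := Algebra.FinitePresentation.of_finiteType.mp inferInstance
  exact lSep_of_fp u (A ⊗[k] ↥C₀) H

/-- A flat module over an Artinian ring is projective. -/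
theorem projective_of_flat_artinian [IsArtinianRing A] (N : Type u) [AddCommGroup N] [Module A N] [Module.Flat A N] :
    Module.Projective A N := by
  let I := Ring.jacobson A
  have hI : IsNilpotent I := IsSemiprimaryRing.isNilpotent
  haveI : IsSemisimpleRing (A ⧸ I) := inferInstance
  haveI : Module.Projective (A ⧸ I) (N ⧸ (I • ⊤ : Submodule A N)) := Module.projective_of_isSemisimpleRing _ _
  exact ProjLib.projective_of_nilpotent hI N

end Sep43Lib
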