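import Groth.Agent.Sep43Lib.Nilp
import Groth.Agent.ConsLib.ModLoci
import Groth.Agent.MiscFlat6.QuasiFlat

/-!
# Universally separating families and fibres
-/

set_option autoImplicit false
universe u

open CategoryTheory CategoryTheory.Limits AlgebraicGeometry TopologicalSpace Opposite TensorProduct

noncomputable section

namespace Sep43Lib

/-- A family from a finite module over a Noetherian algebra into flat modules is separating if it is on all
fibres. -/
theorem sep_of_fibres {R B M : Type u} [CommRing R] [CommRing B] [Algebra R B] [IsNoetherianRing B]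
    [AddCommGroup M] [Module B M] [Module R M] [IsScalarTower R B M] [Module.Finite B M] {ι : Type u}
    {G : ι → Type u} [∀ i, AddCommGroup (G i)] [∀ i, Module R (G i)] [∀ i, Module.Flat R (G i)]
    (u : ∀ i, M →ₗ[R] G i)
    (h : ∀ (p : Ideal R) [p.IsPrime], Sep fun i =>
      (u i).baseChange (Localization.AtPrime p ⧸ IsLocalRing.maximalIdeal (Localization.AtPrime p))) :
    Sep u := by
  intro x hx
  suffices hJ : (LinearMap.ker (LinearMap.toSpanSingleton B M x) : Ideal B) = ⊤ by
    have : (1 : B) ∈ (LinearMap.ker (LinearMap.toSpanSingleton B M x) : Ideal B) := hJ ▸ Submodule.mem_top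
    simpa using this
  by_contra hne
  obtain ⟨q, hq, hle⟩ := Ideal.exists_le_maximal _ hne
  haveI := hq.isPrime
  let p := q.comap (algebraMap R B)
  haveI : p.IsPrime := Ideal.comap_isPrime _ q
  let A := Localization.AtPrime p
  let Bq := Localization.AtPrime q
  let Mq := LocalizedModule q.primeCompl M
  let σ : A →+* Bq := Localization.localRingHom p q (algebraMap R B) rfl
  letI : Module A Mq := Module.compHom Mq σ
  haveI : IsScalarTower R A Mq := IsScalarTower.of_algebraMap_smul fun r y => by
    show σ (algebraMap R A r) • y = r • y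
    rw [Localization.localRingHom_to_map, algebraMap_smul, algebraMap_smul]
  let ψ : A ⊗[R] M →ₗ[A] Mq := LinearMap.liftBaseChange A
    ((LocalizedModule.mkLinearMap q.primeCompl M).restrictScalars R)
  haveI : ∀ n : ℕ, Module.Projective (A ⧸ IsLocalRing.maximalIdeal A)
      ((A ⧸ IsLocalRing.maximalIdeal A) ⊗[A] ↥(IsLocalRing.maximalIdeal A ^ n)) := fun n => by
    letI := Ideal.Quotient.field (IsLocalRing.maximalIdeal A)
    infer_instance
  have hsep : Sep fun i => ((u i).baseChange A).baseChange (A ⧸ IsLocalRing.maximalIdeal A) := by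
    intro z hz
    let k := A ⧸ IsLocalRing.maximalIdeal A
    apply (AlgebraTensorModule.cancelBaseChange R A k k M).injective
    rw [map_zero]
    refine h p _ fun i => ?_
    have : (u i).baseChange k (AlgebraTensorModule.cancelBaseChange R A k k M z) =
        AlgebraTensorModule.cancelBaseChange R A k k (G i) (((u i).baseChange A).baseChange k z) := by
      clear hz
      induction z using TensorProduct.induction_on with
      | zero => simp
      | tmul a y =>
        induction y using TensorProduct.induction_on with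
        | zero => simp
        | tmul b m => simp
        | add b c hb hc => simp only [TensorProduct.tmul_add, map_add, hb, hc]
      | add a b ha hb => simp only [map_add, ha, hb]
    show (u i).baseChange k _ = 0
    rw [this, hz, map_zero]
  have hn : ∀ n : ℕ, ψ (1 ⊗ₜ x) ∈ IsLocalRing.maximalIdeal Bq ^ n • (⊤ : Submodule Bq Mq) := fun n => by
    have h1 := mem_pow_smul_of_sep (fun i => (u i).baseChange A) (IsLocalRing.maximalIdeal A) this hsep
      (x := (1 : A) ⊗ₜ[R] x) (fun i => by rw [LinearMap.baseChange_tmul, hx, TensorProduct.tmul_zero]) n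
    refine Submodule.smul_induction_on h1 (fun a ha y _ => ?_) fun y y' hy hy' => by
      rw [map_add]; exact Submodule.add_mem _ hy hy'
    rw [map_smul]
    show σ a • ψ y ∈ _
    refine Submodule.smul_mem_smul ?_ Submodule.mem_top
    refine Ideal.pow_right_mono ?_ n (Ideal.map_pow σ (IsLocalRing.maximalIdeal A) n ▸ Ideal.mem_map_of_mem σ ha)
    exact Ideal.map_le_iff_le_comap.mpr fun b hb hu => hb (IsLocalHom.map_nonunit (f := σ) b hu)
  haveI : Module.Finite Bq Mq := Module.Finite.of_isLocalizedModule q.primeCompl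
    (LocalizedModule.mkLinearMap q.primeCompl M)
  have h0 : ψ (1 ⊗ₜ x) = 0 := by
    have := Submodule.mem_iInf _ |>.mpr hn
    rwa [Ideal.iInf_pow_smul_eq_bot_of_isLocalRing _ (IsLocalRing.maximalIdeal.isMaximal Bq).ne_top,
      Submodule.mem_bot] at this
  rw [LinearMap.liftBaseChange_tmul, one_smul] at h0
  obtain ⟨s, hs⟩ := (IsLocalizedModule.eq_zero_iff q.primeCompl (LocalizedModule.mkLinearMap q.primeCompl M)).mp h0
  exact s.2 (hle (LinearMap.mem_ker.mpr hs))

section Scheme

variable {X : Scheme.{u}} {k : CommRingCat.{u}} {ι : Type u}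

theorem lSep_tensor_of_algebra (p : X ⟶ Spec k) {U : X.Opens} (hU : IsAffineOpen U) {F : X.Modules}
    [Coh.IsQCoh F] {G : ι → X.Modules} [∀ i, Coh.IsQCoh (G i)] {v : ∀ i, F ⟶ G i} {K : Type u} [CommRing K]
    [inst : Algebra k K]
    (h : SepMod _ _ (pbFam (u := v) (pullback.fst p (Spec.map (CommRingCat.ofHom (algebraMap k K)))))) :
    letI := baseAlg p U
    LSep fun i => (secFam F G v U i).baseChange (Γ(X, U) ⊗[k] K) := by
  have e : (CommRingCat.ofHom (algebraMap k K)).hom.toAlgebra = inst := Algebra.algebra_ext _ _ fun _ => rfl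
  have h1 := lSep_tensor_of_sepMod (CommRingCat.ofHom (algebraMap k K)) p hU h
  exact e ▸ h1

/-- Separation from separation on all fibres. -/
theorem sepMod_of_fibres [IsLocallyNoetherian X] (p : X ⟶ Spec k) {F : X.Modules} (hF : Coh.IsCoh F)
    {G : ι → X.Modules} [∀ i, Coh.IsQCoh (G i)] (hG : ∀ i, FlatMod.IsFlatOver p (G i)) {v : ∀ i, F ⟶ G i}
    (h : ∀ (K : Type u) [Field K] (φ : k ⟶ CommRingCat.of K),
      SepMod _ _ (pbFam (u := v) (pullback.fst p (Spec.map φ)))) : SepMod F G v := by
  haveI : Coh.IsQCoh F := hF.1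
  refine sepMod_of_nhds fun V x hx => ?_
  obtain ⟨U, hU, hxU, hle⟩ := Opens.isBasis_iff_nbhd.mp X.isBasis_affineOpens (U := V) (x := x) hx
  refine ⟨U, hle, hxU, ?_⟩
  letI := baseAlg p U
  letI : Module k Γ(F, U) := Module.compHom Γ(F, U) (algebraMap k Γ(X, U))
  haveI : IsScalarTower k Γ(X, U) Γ(F, U) := IsScalarTower.of_algebraMap_smul fun _ _ => rfl
  letI : ∀ i, Module k Γ(G i, U) := fun i => Module.compHom Γ(G i, U) (algebraMap k Γ(X, U))
  haveI : ∀ i, IsScalarTower k Γ(X, U) Γ(G i, U) := fun i => IsScalarTower.of_algebraMap_smul fun _ _ => rfl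
  haveI : ∀ i, Module.Flat k Γ(G i, U) := fun i => flat_sections_base p hU (hG i)
  haveI : IsNoetherianRing Γ(X, U) := IsLocallyNoetherian.component_noetherian ⟨U, hU⟩
  haveI : Module.Finite Γ(X, U) Γ(F, U) := QCohLib.finite_of_isFT hF.2 hU
  intro y hy
  refine sep_of_fibres (R := k) (B := Γ(X, U)) (fun i => (secFam F G v U i).restrictScalars k) (fun P _ => ?_) y hy
  let K := Localization.AtPrime P ⧸ IsLocalRing.maximalIdeal (Localization.AtPrime P)
  letI : Field K := Ideal.Quotient.field _
  exact sep_baseChange_of_tensor _ K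
    (lSep_tensor_of_algebra p hU (h K _)).sep

/-- Separation is invariant under composition with an isomorphism. -/
theorem sepMod_comp {P Q : Scheme.{u}} (e : P ⟶ Q) [IsIso e] (b : Q ⟶ X) {F : X.Modules} {G : ι → X.Modules}
    [Coh.IsQCoh F] [∀ i, Coh.IsQCoh (G i)] {v : ∀ i, F ⟶ G i} {c : P ⟶ X} (hc : e ≫ b = c)
    (h : SepMod _ _ (pbFam (u := v) c)) : SepMod _ _ (pbFam (u := pbFam (u := v) b) e) := by
  subst hc
  intro V t ht
  let η := Scheme.Modules.pullbackComp e b
  have hη : ((η.hom.app F).app V) t = 0 := h V _ fun i => by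
    show (((Scheme.Modules.pullback (e ≫ b)).map (v i)).app V) ((η.hom.app F).app V t) = 0
    rw [← CategoryTheory.comp_apply, ← Scheme.Modules.Hom.comp_app, ← η.hom.naturality,
      Scheme.Modules.Hom.comp_app, CategoryTheory.comp_apply]
    exact (congrArg _ (ht i)).trans (map_zero _)
  have h2 := congr($(η.hom_inv_id_app F) |>.app V t)
  rw [Scheme.Modules.Hom.comp_app, CategoryTheory.comp_apply, hη, map_zero] at h2
  exact h2.symm

/-- Separation on a base change from separation on a base change isomorphic to it. -/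
theorem sepMod_of_iso {P Q : Scheme.{u}} (e : P ⟶ Q) [IsIso e] (b : Q ⟶ X) {F : X.Modules} {G : ι → X.Modules}
    [Coh.IsQCoh F] [∀ i, Coh.IsQCoh (G i)] {v : ∀ i, F ⟶ G i} {c : P ⟶ X} (hc : e ≫ b = c)
    (h : SepMod _ _ (pbFam (u := v) c)) : SepMod _ _ (pbFam (u := v) b) := by
  haveI := KFlatLib.isQCoh_pullback b F
  haveI : ∀ i, Coh.IsQCoh ((Scheme.Modules.pullback b).obj (G i)) := fun i => KFlatLib.isQCoh_pullback b (G i)
  exact sepMod_of_faithfullyFlat e (sepMod_comp e b hc h)

/-- Separation on the pullback along a composite from separation of the iterated pullback. -/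
theorem sepMod_comp' {P Q : Scheme.{u}} (a : P ⟶ Q) (b : Q ⟶ X) {F : X.Modules} {G : ι → X.Modules}
    {v : ∀ i, F ⟶ G i} (h : SepMod _ _ (pbFam (u := pbFam (u := v) b) a)) :
    SepMod _ _ (pbFam (u := v) (a ≫ b)) := by
  intro V t ht
  let η := Scheme.Modules.pullbackComp a b
  have hη : ((η.inv.app F).app V) t = 0 := h V _ fun i => by
    show (((Scheme.Modules.pullback b ⋙ Scheme.Modules.pullback a).map (v i)).app V) ((η.inv.app F).app V t) = 0
    rw [← CategoryTheory.comp_apply, ← Scheme.Modules.Hom.comp_app, ← η.inv.naturality,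
      Scheme.Modules.Hom.comp_app, CategoryTheory.comp_apply]
    exact (congrArg _ (ht i)).trans (map_zero _)
  have h2 := congr($(η.inv_hom_id_app F) |>.app V t)
  rw [Scheme.Modules.Hom.comp_app, CategoryTheory.comp_apply, hη, map_zero] at h2
  exact h2.symm

/-- Separation of the iterated pullback from separation on the pullback along a composite. -/
theorem sepMod_iterate {P Q : Scheme.{u}} (a : P ⟶ Q) (b : Q ⟶ X) {F : X.Modules} {G : ι → X.Modules}
    {v : ∀ i, F ⟶ G i} (h : SepMod _ _ (pbFam (u := v) (a ≫ b))) :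
    SepMod _ _ (pbFam (u := pbFam (u := v) b) a) := by
  intro V t ht
  let η := Scheme.Modules.pullbackComp a b
  have hη : ((η.hom.app F).app V) t = 0 := h V _ fun i => by
    show (((Scheme.Modules.pullback (a ≫ b)).map (v i)).app V) ((η.hom.app F).app V t) = 0
    rw [← CategoryTheory.comp_apply, ← Scheme.Modules.Hom.comp_app, ← η.hom.naturality,
      Scheme.Modules.Hom.comp_app, CategoryTheory.comp_apply]
    exact (congrArg _ (ht i)).trans (map_zero _)
  have h2 := congr($(η.hom_inv_id_app F) |>.app V t)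
  rw [Scheme.Modules.Hom.comp_app, CategoryTheory.comp_apply, hη, map_zero] at h2
  exact h2.symm

/-- Universal separation over an affine base from separation over all fields. -/
theorem sepMod_pullback_of_fields [IsLocallyNoetherian X] (p : X ⟶ Spec k) {F : X.Modules} (hF : Coh.IsCoh F)
    {G : ι → X.Modules} [∀ i, Coh.IsQCoh (G i)] (hG : ∀ i, FlatMod.IsFlatOver p (G i)) {v : ∀ i, F ⟶ G i}
    (h : ∀ (K : Type u) [Field K] (φ : k ⟶ CommRingCat.of K),
      SepMod _ _ (pbFam (u := v) (pullback.fst p (Spec.map φ))))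
    {C : CommRingCat.{u}} (φ : k ⟶ C) : SepMod _ _ (pbFam (u := v) (pullback.fst p (Spec.map φ))) := by
  haveI : Coh.IsQCoh F := hF.1
  refine sepMod_of_subalgebras p hG φ fun B a b _ _ ha => ?_
  haveI : LocallyOfFiniteType (Spec.map a) := (HasRingHomProperty.Spec_iff (P := @LocallyOfFiniteType)).mpr ha
  haveI : IsLocallyNoetherian (pullback p (Spec.map a)) :=
    LocallyOfFiniteType.isLocallyNoetherian (pullback.fst p (Spec.map a))
  haveI : ∀ i, Coh.IsQCoh ((Scheme.Modules.pullback (pullback.fst p (Spec.map a))).obj (G i)) := fun i =>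
    KFlatLib.isQCoh_pullback _ _
  haveI := KFlatLib.isQCoh_pullback (pullback.fst p (Spec.map a)) F
  refine sepMod_of_fibres (pullback.snd p (Spec.map a)) (ConsLib.isCoh_pullback _ hF)
    (fun i => MiscFlat6.QFlat.isFlatOver_pullback p (G i) (hG i) (Spec.map a)) fun K _ c => ?_
  refine sepMod_iterate _ _ ?_
  let e := pullbackLeftPullbackSndIso p (Spec.map a) (Spec.map c) ≪≫
    pullback.congrHom rfl (Spec.map_comp a c).symm
  refine sepMod_of_iso e.inv _ (c := pullback.fst p (Spec.map (a ≫ c))) ?_ (h K (a ≫ c))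
  simp [e, pullback.lift_fst]

end Scheme

end Sep43Lib
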