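import Groth.Agent.Sep43Lib.Field
import Groth.Agent.RichLib.IsFPAffine

/-!
# Separating families over an affine base
-/

set_option autoImplicit false
universe u

open CategoryTheory CategoryTheory.Limits AlgebraicGeometry TopologicalSpace Opposite TensorProduct

noncomputable section

namespace Sep43Lib

variable {X : Scheme.{u}} {k C : CommRingCat.{u}} (φ : k ⟶ C) (p : X ⟶ Spec k)

/-- The algebra of sections over the base ring. -/
abbrev baseAlg (U : X.Opens) : Algebra k Γ(X, U) :=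
  ((Scheme.ΓSpecIso k).inv ≫ p.appLE ⊤ U le_top).hom.toAlgebra

/-- The inverse image of an open subset in the base change to the spectrum of an algebra. -/
abbrev prodOpen (U : X.Opens) : (pullback p (Spec.map φ)).Opens :=
  pullback.fst p (Spec.map φ) ⁻¹ᵁ U ⊓ pullback.snd p (Spec.map φ) ⁻¹ᵁ ⊤

variable {U : X.Opens} (hU : IsAffineOpen U)

include hU in
theorem isAffineOpen_prodOpen : IsAffineOpen (prodOpen φ p U) :=
  RpushLib.isAffineOpen_fibre (IsPullback.of_hasPullback p (Spec.map φ)) (US := ⊤) (isAffineOpen_top _)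
    (isAffineOpen_top _) le_top hU le_top

include hU in
/-- Functions on the base change of an affine open. -/
theorem exists_prodEquiv :
    letI := baseAlg p U
    letI := φ.hom.toAlgebra
    letI := ((pullback.fst p (Spec.map φ)).appLE U (prodOpen φ p U) inf_le_left).hom.toAlgebra
    Nonempty ((Γ(X, U) ⊗[k] C) ≃ₐ[Γ(X, U)] Γ(pullback p (Spec.map φ), prodOpen φ p U)) := by
  letI := baseAlg p U
  letI := φ.hom.toAlgebra
  letI := ((pullback.fst p (Spec.map φ)).appLE U (prodOpen φ p U) inf_le_left).hom.toAlgebra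
  have hP := RpushLib.isPushout_sections (IsPullback.of_hasPullback p (Spec.map φ)) (US := ⊤)
    (isAffineOpen_top _) (isAffineOpen_top _) (le_top : ⊤ ≤ Spec.map φ ⁻¹ᵁ ⊤) hU le_top
  have hP' : IsPushout ((Scheme.ΓSpecIso k).inv ≫ p.appLE ⊤ U le_top) φ
      ((pullback.fst p (Spec.map φ)).appLE U (prodOpen φ p U) inf_le_left)
      ((Scheme.ΓSpecIso C).inv ≫ (pullback.snd p (Spec.map φ)).appLE ⊤ (prodOpen φ p U) inf_le_right) := by
    refine hP.of_iso (Scheme.ΓSpecIso k) (Iso.refl _) (Scheme.ΓSpecIso C) (Iso.refl _) ?_ ?_ ?_ ?_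
    · simp
    · rw [← Scheme.ΓSpecIso_naturality]
      simp [Scheme.Hom.appLE]
    · exact (Category.comp_id _).trans (Category.id_comp _).symm
    · exact (Category.comp_id _).trans (Iso.hom_inv_id_assoc _ _).symm
  have hT := CommRingCat.isPushout_tensorProduct k Γ(X, U) C
  exact ⟨{ (hT.isoIsPushout _ _ hP').commRingCatIsoToRingEquiv with
    commutes' := fun a => congr($(hT.inl_isoIsPushout_hom _ _ hP') a) }⟩

variable {F : X.Modules} {ι : Type u} {G : ι → X.Modules} {u : ∀ i, F ⟶ G i}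
  [Coh.IsQCoh F] [∀ i, Coh.IsQCoh (G i)]

include hU in
theorem lSep_tensor_of_sepMod (h : SepMod _ _ (pbFam (u := u) (pullback.fst p (Spec.map φ)))) :
    letI := baseAlg p U
    letI := φ.hom.toAlgebra
    LSep fun i => (secFam F G u U i).baseChange (Γ(X, U) ⊗[k] C) := by
  letI := baseAlg p U
  letI := φ.hom.toAlgebra
  letI := ((pullback.fst p (Spec.map φ)).appLE U (prodOpen φ p U) inf_le_left).hom.toAlgebra
  obtain ⟨e⟩ := exists_prodEquiv φ p hU
  refine lSep_congr _ e.symm ?_
  obtain ⟨eF, eG, he, -⟩ := exists_puEquiv (u := u) (pullback.fst p (Spec.map φ))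
    (inf_le_left : prodOpen φ p U ≤ _) hU (isAffineOpen_prodOpen φ p hU)
  haveI := KFlatLib.isQCoh_pullback (pullback.fst p (Spec.map φ)) F
  have hL := lSep_secFam h (isAffineOpen_prodOpen φ p hU)
  intro f z hz
  obtain ⟨n, hn⟩ := hL f (eF z) fun i => by
    obtain ⟨n, hn⟩ := hz i
    exact ⟨n, by rw [he, ← map_smul, hn, map_zero]⟩
  exact ⟨n, eF.injective (by rw [map_smul, hn, map_zero])⟩

theorem sepMod_of_lSep_tensor
    (h : ∀ U : X.Opens, IsAffineOpen U →
      letI := baseAlg p U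
      letI := φ.hom.toAlgebra
      LSep fun i => (secFam F G u U i).baseChange (Γ(X, U) ⊗[k] C)) :
    SepMod _ _ (pbFam (u := u) (pullback.fst p (Spec.map φ))) := by
  refine sepMod_of_nhds fun V x hx => ?_
  obtain ⟨U, hU, hxU⟩ := QCohLib.exists_affine_nhd (pullback.fst p (Spec.map φ) x)
  letI := baseAlg p U
  letI := φ.hom.toAlgebra
  letI := ((pullback.fst p (Spec.map φ)).appLE U (prodOpen φ p U) inf_le_left).hom.toAlgebra
  obtain ⟨e⟩ := exists_prodEquiv φ p hU
  have hU' := isAffineOpen_prodOpen φ p hU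
  have hL := lSep_pullback (u := u) _ (inf_le_left : prodOpen φ p U ≤ _) hU hU' (lSep_congr _ e (h U hU))
  haveI := KFlatLib.isQCoh_pullback (pullback.fst p (Spec.map φ)) F
  haveI : ∀ i, Coh.IsQCoh ((Scheme.Modules.pullback (pullback.fst p (Spec.map φ))).obj (G i)) := fun i =>
    KFlatLib.isQCoh_pullback _ _
  obtain ⟨f, hfV, hxf⟩ := QCohLib.exists_basicOpen_nhd hU' (V := V) hx ⟨hxU, trivial⟩
  exact ⟨_, hfV, hxf, sep_basicOpen hU' hL f⟩

include hU in
omit [∀ i, Coh.IsQCoh (G i)] in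
/-- Sections over an affine open of a module flat over an affine base. -/
theorem flat_sections_base {M : X.Modules} [Coh.IsQCoh M] (hM : FlatMod.IsFlatOver p M) :
    letI := baseAlg p U
    letI := Module.compHom Γ(M, U) (algebraMap k Γ(X, U))
    Module.Flat k Γ(M, U) := by
  letI := baseAlg p U
  letI := Module.compHom Γ(M, U) (algebraMap k Γ(X, U))
  letI : Algebra Γ(Spec k, ⊤) Γ(X, U) := (p.appLE ⊤ U le_top).hom.toAlgebra
  letI := Module.compHom Γ(M, U) (algebraMap Γ(Spec k, ⊤) Γ(X, U))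
  haveI : IsScalarTower Γ(Spec k, ⊤) Γ(X, U) Γ(M, U) := IsScalarTower.of_algebraMap_smul fun _ _ => rfl
  haveI := RichLib.IsFPAffine.flat_sections p M (isAffineOpen_top _) hU le_top rfl fun z _ => hM z
  letI : Algebra k Γ(Spec k, ⊤) := (Scheme.ΓSpecIso k).inv.hom.toAlgebra
  haveI : IsScalarTower k Γ(Spec k, ⊤) Γ(M, U) := IsScalarTower.of_algebraMap_smul fun _ _ => rfl
  haveI : Module.Flat k Γ(Spec k, ⊤) := RingHom.Flat.of_bijective
    (f := (Scheme.ΓSpecIso k).inv.hom) (Scheme.ΓSpecIso k).commRingCatIsoToRingEquiv.symm.bijective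
  exact Module.Flat.trans k Γ(Spec k, ⊤) Γ(M, U)

end Sep43Lib
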